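import Cfsg.Agent.Lib.HNS.Cert
import Cfsg.Agent.Lib.StdInt.Wrap

/-! Standard subgroup `2.HS`: the position of `L` in the ambient group -/

set_option autoImplicit false

namespace CfsgLib.HNS

open Subgroup Cfsg CfsgLib.HN CfsgLib.HNR FusA
open CfsgLib.StdInt hiding Pair Fus

/-! ### more facts about `PH` -/

theorem Kcj {a : PH} (m : PH) (ha : a ∈ K) : m * a * m⁻¹ ∈ K := Normal.conj_mem inferInstance a ha m

theorem Kmul {a b : PH} : a * b ∈ K ↔ (a ∈ K ↔ b ∈ K) := mul_mem_iff_of_index_two index_K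

theorem WG_cj {m x : PH} (k : PH) (h : x ∈ WG K m) : k * x * k⁻¹ ∈ WG K (k * m * k⁻¹) := by
  induction h using closure_induction with
  | mem x hx => exact subset_closure ⟨Kcj k hx.1, odd_conj k hx.2.1, hx.2.2.conj k⟩
  | one => simp
  | mul x y _ _ hx hy => simpa [mul_assoc] using mul_mem hx hy
  | inv x _ hx => simpa [mul_assoc] using inv_mem hx

theorem t_W {m : PH} (hm : m ∈ K) (h : m * m = 1) (h1 : m ≠ 1) (h2 : m ≠ tP) : tP ∈ WG K m := by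
  obtain ⟨k, -, e | e⟩ := inv_K hm h h1 h2 <;> rw [← e, ← mul_inv_eq_iff_eq_mul.2 (t_comm k)]
  exacts [WG_cj k t_Wu, WG_cj k (W_z ▸ t_Wu)]

/-- generators of a large subgroup of `R` -/
noncomputable def gens : List PH := [uP, el 16, el 17, el 18 * el 19, el 18 * el 20, el 18 * el 21]

theorem gens_W : ∀ x ∈ gens, x ∈ WG K uP ∧ Two x ∧ x ∈ RP := by
  simp only [gens, List.forall_mem_cons, RP_eq]
  exact ⟨⟨u_Wu, twoP [2], (show el 0 * el 1 = uP from pke [0, 1] [2]) ▸ mul_mem (mcl 0) (mcl 1)⟩, ⟨g1_Wu, twoP [16], mcl 16⟩,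
    ⟨g2_Wu, twoP [17], mcl 17⟩, ⟨g3_Wu, twoP [18, 19], mul_mem (mcl 18) (mcl 19)⟩,
    ⟨g4_Wu, twoP [18, 20], mul_mem (mcl 18) (mcl 20)⟩, ⟨g5_Wu, twoP [18, 21], mul_mem (mcl 18) (mcl 21)⟩, by simp⟩

theorem gens_K {x : PH} (h : x ∈ gens) : x ∈ K := (WG_le (gens_W x h).1).1

theorem cenW' {a : PH} (h : ∀ x ∈ gens, Commute a x) :
    a = 1 ∨ a = tP ∨ a = uP ∨ a = zP ∨ a * a = zP ∧ ¬ Commute a vP := by
  simp only [gens, List.forall_mem_cons] at h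
  exact cenW h.1 h.2.1 h.2.2.1 h.2.2.2.1 h.2.2.2.2.1 h.2.2.2.2.2.1

theorem z_iff {a : PH} : Commute a zP ↔ a ∈ PP := ⟨fun e => mem_PP.2 (by
  have := (Commute.inv_right (t_comm a)).mul_right (z_eq ▸ e)
  rwa [inv_mul_cancel_left] at this), PP_z⟩

theorem z_ne_t : zP ≠ tP := pkn [1] [0]
theorem u_ne_t : uP ≠ tP := pkn [2] [0]
theorem ρ_K : ρP ∈ K := el_K 5

variable {G : Type*} [Group G] {f : PH → G} {L : Subgroup G} {m m' a b : PH} {h h' g : G}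

/-- `h` acts on `L` as `m` acts on `K` -/
def Ac (f : PH → G) (m : PH) (h : G) : Prop := ∀ a ∈ K, h * f a * h⁻¹ = f (m * a * m⁻¹)

theorem Ac.mul (h1 : Ac f m h) (h2 : Ac f m' h') : Ac f (m * m') (h * h') := fun a ha => by
  rw [show h * h' * f a * (h * h')⁻¹ = h * (h' * f a * h'⁻¹) * h⁻¹ by group, h2 a ha, h1 _ (Kcj _ ha)]
  congr 1; group

theorem Ac.inv (h1 : Ac f m h) : Ac f m⁻¹ h⁻¹ := fun a ha => by
  have := h1 _ (Kcj m⁻¹ ha)
  rw [show m * (m⁻¹ * a * m⁻¹⁻¹) * m⁻¹ = a by group] at this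
  rw [← this]; group

theorem Ac.one : Ac f 1 1 := fun a _ => by simp

theorem Ac.pow (h1 : Ac f m h) : ∀ n : ℕ, Ac f (m ^ n) (h ^ n)
  | 0 => by simpa using Ac.one
  | n + 1 => by rw [pow_succ, pow_succ]; exact (h1.pow n).mul h1

theorem Ac.ct (h1 : Ac f m h) : Commute h (f tP) :=
  mul_inv_eq_iff_eq_mul.1 (by rw [h1 _ t_K, t_comm, mul_inv_cancel_right])

/-- `L` is identified with `K` -/
structure Em (f : PH → G) (L : Subgroup G) : Prop where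
  mul : ∀ {a b}, a ∈ K → b ∈ K → f (a * b) = f a * f b
  inj : ∀ {a b}, a ∈ K → b ∈ K → f a = f b → a = b
  mem : ∀ {x}, x ∈ L ↔ ∃ a ∈ K, f a = x
  std : IsStandardSubgroup L
  act : ∀ h ∈ normalizer (L : Set G), ∃ m, Ac f m h

theorem exists_em [Finite G] (hL : IsStandardSubgroup L) (hZ : Nat.card (center L) = 2)
    (e : L ⧸ center L ≃* Spor.HS) : ∃ f, Em f L := by
  classical
  obtain ⟨η, hη⟩ := exists_iso_K (nonsplit_of_perfect (commutator_of_standard hL) hZ e)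
  let ι : K ≃* L := MulEquiv.ofBijective η hη
  let f : PH → G := fun a => if h : a ∈ K then ι ⟨a, h⟩ else 1
  have hf : ∀ a : K, f a = ι a := fun a => dif_pos a.2
  refine ⟨f, fun {a b} ha hb => ?_, fun {a b} ha hb e => ?_, fun {x} => ⟨fun hx => ?_, ?_⟩, hL, fun h hh => ?_⟩
  · rw [hf ⟨a, ha⟩, hf ⟨b, hb⟩, ← coe_mul, ← map_mul]; exact hf ⟨_, mul_mem ha hb⟩
  · rw [hf ⟨a, ha⟩, hf ⟨b, hb⟩] at e
    exact congrArg Subtype.val (ι.injective (Subtype.ext e))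
  · obtain ⟨a, ha⟩ := ι.surjective ⟨x, hx⟩
    exact ⟨a, a.2, by rw [hf, ha]⟩
  · rintro ⟨a, ha, rfl⟩
    rw [hf ⟨a, ha⟩]; exact (ι _).2
  · let γ : K ≃* K := (ι.trans (aut hh)).trans ι.symm
    obtain ⟨m, hm⟩ := aut_K γ.toMonoidHom γ.injective fun k hk => by
      have h1 : k ∈ center K := (mem_center_K k).2 (.inr hk)
      refine ((mem_center_K (γ k)).1 (mem_center_iff.2 fun x => ?_)).resolve_left fun e => c2_ne ?_
      · obtain ⟨x, rfl⟩ := γ.surjective x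
        rw [← map_mul, ← map_mul, mem_center_iff.1 h1]
      · rw [← hk, γ.map_eq_one_iff.1 (Subtype.ext e : γ k = 1)]; rfl
    refine ⟨m⁻¹, fun a ha => ?_⟩
    have h1 : m * (γ ⟨a, ha⟩).1 * m⁻¹ = a := hm ⟨a, ha⟩
    rw [show m⁻¹ * a * m⁻¹⁻¹ = γ ⟨a, ha⟩ by nth_rewrite 1 [← h1]; group, hf, hf ⟨a, ha⟩, ← aut_apply hh]
    simp [γ]

namespace Em

variable (E : Em f L)
include E

/-- the homomorphism -/
noncomputable def hom : K →* G := MonoidHom.mk' (fun a => f a) fun a b => E.mul a.2 b.2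

theorem one : f 1 = 1 := E.hom.map_one
theorem inv (ha : a ∈ K) : f a⁻¹ = (f a)⁻¹ := E.hom.map_inv ⟨a, ha⟩
theorem mL (ha : a ∈ K) : f a ∈ L := E.mem.2 ⟨a, ha, rfl⟩

theorem cj' (ha : a ∈ K) (hb : b ∈ K) : f (a * b * a⁻¹) = f a * f b * (f a)⁻¹ := by
  rw [E.mul (mul_mem ha hb) (inv_mem ha), E.mul ha hb, E.inv ha]

theorem ord (ha : a ∈ K) : orderOf (f a) = orderOf a :=
  (orderOf_injective E.hom (fun x y e => Subtype.ext (E.inj x.2 y.2 e)) ⟨a, ha⟩).trans (orderOf_coe _).symm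

theorem two (ha : a ∈ K) (h : Two a) : Two (f a) := h.imp fun k hk => by
  rw [← orderOf_dvd_iff_pow_eq_one, E.ord ha, orderOf_dvd_iff_pow_eq_one, hk]

theorem eq1 (ha : a ∈ K) (h : f a = 1) : a = 1 := E.inj ha (one_mem K) (h.trans E.one.symm)

theorem sq (ha : a ∈ K) : f a * f a = 1 ↔ a * a = 1 := by
  rw [← E.mul ha ha]
  exact ⟨E.eq1 (mul_mem ha ha), fun e => by rw [e, E.one]⟩

theorem ac (ha : a ∈ K) : Ac f a (f a) := fun _ hb => (E.cj' ha hb).symm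

theorem comm (h1 : Ac f m h) (ha : a ∈ K) : Commute h (f a) ↔ Commute m a := by
  rw [commute_iff_eq, ← mul_inv_eq_iff_eq_mul, h1 a ha, commute_iff_eq, ← mul_inv_eq_iff_eq_mul]
  exact ⟨E.inj (Kcj m ha) ha, congrArg f⟩

theorem memC (h1 : Ac f m h) : h ∈ centralizer (L : Set G) ↔ m = 1 ∨ m = tP := by
  rw [mem_cent, tP_eq]
  refine ⟨fun e => cent_K fun k hk => ((E.comm h1 hk).1 (e _ (E.mL hk)).symm).symm, fun e l hl => ?_⟩
  obtain ⟨a, ha, rfl⟩ := E.mem.1 hl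
  refine ((E.comm h1 ha).2 ?_).symm
  rcases e with rfl | rfl
  exacts [Commute.one_left a, (c2_comm a).symm]

theorem acC (h1 : h ∈ centralizer (L : Set G)) : Ac f 1 h := fun a ha => by
  rw [← (mem_cent.1 h1 _ (E.mL ha)).eq]; simp

theorem ac_sq (h1 : Ac f m h) (h2 : h * h = 1) : m * m = 1 ∨ m * m = tP := (E.memC (h1.mul h1)).1 (h2 ▸ one_mem _)

theorem conj_ac (h1 : Ac f (a * m * a⁻¹) h) (ha : a ∈ K) : Ac f m ((f a)⁻¹ * h * (f a)⁻¹⁻¹) := by
  simpa [mul_assoc] using ((E.ac ha).inv.mul h1).mul (E.ac ha)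

theorem wg (h1 : Ac f m h) (ha : a ∈ WG K m) : f a ∈ WG L h := by
  induction ha using closure_induction with
  | mem x hx => exact subset_closure ⟨E.mL hx.1, E.ord hx.1 ▸ hx.2.1, (E.comm h1 hx.1).2 hx.2.2⟩
  | one => rw [E.one]; exact one_mem _
  | mul x y a b hx hy => rw [E.mul (WG_le a).1 (WG_le b).1]; exact mul_mem hx hy
  | inv x a hx => rw [E.inv (WG_le a).1]; exact inv_mem hx

theorem wg' (h1 : Ac f m h) {x : G} (hx : x ∈ WG L h) : ∃ a ∈ WG K m, f a = x := by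
  induction hx using closure_induction with
  | mem x hx =>
    obtain ⟨a, ha, rfl⟩ := E.mem.1 hx.1
    exact ⟨a, subset_closure ⟨ha, E.ord ha ▸ hx.2.1, (E.comm h1 ha).1 hx.2.2⟩, rfl⟩
  | one => exact ⟨1, one_mem _, E.one⟩
  | mul x y _ _ hx hy =>
    obtain ⟨a, ha, rfl⟩ := hx
    obtain ⟨b, hb, rfl⟩ := hy
    exact ⟨_, mul_mem ha hb, E.mul (WG_le ha).1 (WG_le hb).1⟩
  | inv x _ hx =>
    obtain ⟨a, ha, rfl⟩ := hx
    exact ⟨_, inv_mem ha, E.inv (WG_le ha).1⟩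

theorem tC : f tP ∈ centralizer (L : Set G) := (E.memC (E.ac t_K)).2 (.inr rfl)
theorem tt : f tP * f tP = 1 := (E.sq t_K).2 t_sq
theorem t1 : f tP ≠ 1 := fun e => t_ne (E.eq1 t_K e)

theorem fix0 (h1 : Ac f m h) (h2 : h * h = 1) (h3 : ∀ x ∈ gens, Commute h (f x)) :
    h ∈ centralizer (L : Set G) ∨ h * f uP ∈ centralizer (L : Set G) := by
  rw [E.memC h1, E.memC (h1.mul (E.ac u_K))]
  rcases cenW' fun x hx => (E.comm h1 (gens_K hx)).1 (h3 x hx) with e | e | e | e | e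
  · exact .inl (.inl e)
  · exact .inl (.inr e)
  · exact .inr (.inl (e ▸ u_sq))
  · exact .inr (.inr (e ▸ pke [1, 2] [0]))
  · exact ((e.1 ▸ E.ac_sq h1 h2).elim z_ne z_ne_t).elim

variable [Finite G]

theorem norm_iff : h ∈ normalizer (L : Set G) ↔ Commute h (f tP) :=
  ⟨fun e => (E.act h e).elim fun _ e => e.ct, norm_of_even E.std E.tC E.tt E.t1⟩

theorem act' (h1 : Commute h (f tP)) : ∃ m, Ac f m h := E.act h (E.norm_iff.2 h1)

theorem fw : Fw L (centralizer (L : Set G)) (f tP) where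
  tL := E.mL t_K
  tK := E.tC
  ne := E.t1
  sq := E.tt
  comm l hl k hk := mem_cent.1 hk l hl
  inter x h1 h2 := by
    obtain ⟨a, ha, rfl⟩ := E.mem.1 h1
    exact ((E.memC (E.ac ha)).1 h2).imp (fun e => by rw [e, E.one]) (congrArg f)
  nL c hc l hl := (mem_normalizer_iff.1 (E.norm_iff.2 hc) l).1 hl
  nK c hc l hl := (mem_normalizer_iff.1 (E.std.2.2.2 ▸ E.norm_iff.2 hc) l).1 hl
  dec c hc ho := by
    obtain ⟨m, hm⟩ := E.act' hc
    obtain ⟨n, hn⟩ := ho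
    have h1 : m ^ (2 * n + 1) ∈ K := ((E.memC (hm.pow _)).1 (by rw [← hn, pow_orderOf_eq_one]; exact one_mem _)).elim
      (fun e => e ▸ one_mem K) fun e => e ▸ t_K
    rw [pow_succ, pow_mul, pow_two, mul_mem_cancel_left (pow_mem (Kmul.2 Iff.rfl) n)] at h1
    exact ⟨f m, E.mL h1, (f m)⁻¹ * c, (E.memC ((E.ac h1).inv.mul hm)).2 (.inl (inv_mul_cancel m)), by group⟩
  invC r hr h1 h2 c hc := E.norm_iff.1 (norm_of_even E.std hr h1 h2 hc)
  tight g hg x h1 h2 := odd_of_mem (E.std.2.1.2 g fun e => hg (E.norm_iff.1 (E.std.2.2.2 ▸ e))) ⟨h1, h2⟩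
  nrm s hs w hw h1 h2 h3 h4 h5 := by
    by_cases h6 : w = 1
    · left
      rw [show NG L s w = ⊥ from (closure_eq_bot_iff).2 (by rintro _ ⟨a, -, -, rfl⟩; simp [h6]), card_bot]
      exact odd_one
    refine .inr ⟨f tP, ?_, E.tt, E.t1, h3.symm⟩
    obtain ⟨s, hs', rfl⟩ := E.mem.1 hs
    obtain ⟨w, hw', rfl⟩ := E.mem.1 hw
    obtain ⟨k, hk, e⟩ := inv_K hs' ((E.sq hs').1 h1) (fun e => h2 (by rw [e, E.one])) fun e => h3 (congrArg f e)
    have hc : ∀ a, Commute (k * a * k⁻¹) s ↔ a ∈ PP := fun a => by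
      rcases e with rfl | rfl
      exacts [(Commute.conj_iff k).trans mem_PP.symm, (Commute.conj_iff k).trans z_iff]
    let N : Subgroup PH := ((NG L (f s) (f w)).comap E.hom).map K.subtype
    have hN : ∀ {a}, a ∈ N ↔ a ∈ K ∧ f a ∈ NG L (f s) (f w) := fun {a} =>
      ⟨by rintro ⟨a, ha, rfl⟩; exact ⟨a.2, ha⟩, fun ha => ⟨⟨a, ha.1⟩, ha.2, rfl⟩⟩
    have h7 := t_normal (N := N.comap (MulAut.conj k).toMonoidHom) (w := k⁻¹ * w * k⁻¹⁻¹) (fun a ha hP x hx => by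
      obtain ⟨x1, x2⟩ := hN.1 hx
      have := conj_mem_NG (E.mL (Kcj k ha)) ((E.comm (E.ac (Kcj k ha)) hs').2 ((hc a).2 hP)) x2
      rw [← E.cj' (Kcj k ha) x1] at this
      exact hN.2 ⟨Kcj k (Kcj a (by simpa [mul_assoc] using Kcj k⁻¹ x1)), by simpa [mul_assoc] using this⟩)
      (hN.2 (by simpa [mul_assoc] using ⟨hw', subset_closure ⟨1, one_mem _, Commute.one_left _, by simp⟩⟩)) (Kcj _ hw')
      ((hc _).1 (by simpa [mul_assoc] using (E.comm (E.ac hw') hs').1 h5)) (odd_conj _ (E.ord hw' ▸ h4))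
      fun e => h6 (by rw [conj_eq_one_iff.1 e, E.one])
    have h8 := (hN.1 h7).2
    rwa [show (MulAut.conj k).toMonoidHom tP = tP from mul_inv_eq_iff_eq_mul.2 (t_comm k)] at h8
  fix s hs c h1 h2 h3 h4 h5 h6 := by
    obtain ⟨s, hs', rfl⟩ := E.mem.1 hs
    obtain ⟨k, hk, e⟩ := inv_K hs' ((E.sq hs').1 h1) (fun e => h2 (by rw [e, E.one])) fun e => h3 (congrArg f e)
    obtain ⟨m, hm⟩ := E.act' h4
    have h7 := E.fix0 (((E.ac hk).inv.mul hm).mul (E.ac hk)) (Conn.sq_conj' h5 _) fun x hx => by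
      refine comm_conj.1 ?_
      rw [← E.cj' hk (gens_K hx)]
      refine h6 _ (E.wg (E.ac hs') ?_) (E.two (Kcj k (gens_K hx)) (two_conj k (gens_W x hx).2.1))
      rcases e with rfl | rfl
      exacts [WG_cj k (gens_W x hx).1, WG_cj k (W_z ▸ (gens_W x hx).1)]
    have n : ∀ x, (f k)⁻¹ * x * f k ∈ centralizer (L : Set G) → x ∈ centralizer (L : Set G) := fun x hx => by
      have := mem_cent.1 hx _ (E.mL hk)
      rwa [show (f k)⁻¹ * x * f k = x by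
        rw [← mul_inv_cancel_right ((f k)⁻¹ * x * f k) (f k), ← this.eq]; group] at hx
    refine h7.imp (n c) fun h7 => n _ ?_
    rcases e with rfl | rfl
    · rw [E.cj' hk u_K]
      simpa [mul_assoc] using h7
    · rw [E.cj' hk z_K, z_eq, ← t_comm, E.mul u_K t_K]
      simpa [mul_assoc] using mul_mem h7 E.tC

end Em

end CfsgLib.HNS
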