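import Cfsg.Agent.Lib.HNR.Tau

/-! Standard subgroup `2.HS`: the fourth generator (`HNR.exists_τ` under weaker hypotheses) -/

set_option autoImplicit false
set_option maxRecDepth 10000

namespace CfsgLib.HNS

open Subgroup CfsgLib.Comput CfsgLib.Amalg CfsgLib.HN Cfsg.Spor
open CfsgLib.HNR hiding J St cand_sound stC stA stE exists_τ
open FusA Conn
open CfsgLib.FiTool (bor bor_eq_true lt_of_blt nth_mem)

variable {G : Type*} [Group G] {t s : G} {φ j : PH →* G}

/-- the conjugates of `t` that commute with `s` lie in the image of `φ`, and the fusion is known -/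
structure Fz {G : Type*} [Group G] (t s : G) (φ : PH →* G) : Prop where
  inj : Function.Injective φ
  ft : φ tP = s
  rng : ∀ g, IsConj t g → g * s = s * g → g ∈ φ.range
  ct : IsConj t s
  cu : IsConj t (φ uP)
  cc : IsConj t (φ cP)
  nz : ¬ IsConj t (φ zP)
  nd : ¬ IsConj t (φ dP)

theorem Fz.dd' (h : Fz t s j) {a : PH} (ha : DD a) : IsConj t (j a) := by
  rcases ha with e | e | e
  exacts [h.ct.trans (h.ft ▸ j.map_isConj e), h.cu.trans (j.map_isConj e), h.cc.trans (j.map_isConj e)]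

theorem Fz.nd'' (h : Fz t s j) {a : PH} (ha : ND a) : ¬ IsConj t (j a) := fun hc => by
  rcases ha with e | e
  exacts [h.nz (hc.trans (j.map_isConj e).symm), h.nd (hc.trans (j.map_isConj e).symm)]

theorem Fz.ex (h : Fz t s j) {x y : G} (e : y = j tP) (hD : IsConj t x) (hx : x * y = y * x) : x ∈ j.range :=
  h.rng x hD (h.ft ▸ e ▸ hx)

/-- `j` identifies `PH` with the centraliser of `φ u` -/
structure J (t : G) (φ j : PH →* G) : Prop where
  f : Fz t (φ uP) j
  z : IsConj (φ zP) (j zP)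

theorem J.comp (h : J t φ j) (α : PH →* PH) (hα : Function.Bijective α) (h1 : α tP = tP) (h2 : IsConj uP (α uP))
    (h3 : IsConj cP (α cP)) (h4 : IsConj zP (α zP)) (h5 : IsConj dP (α dP)) : J t φ (j.comp α) :=
  ⟨⟨h.f.inj.comp hα.1, (congrArg j h1).trans h.f.ft, fun g g1 g2 =>
    (h.f.rng g g1 g2).elim fun a e => (hα.2 a).imp fun _ e' => (congrArg j e').trans e, h.f.ct,
    h.f.dd' (.inr (.inl h2)), h.f.dd' (.inr (.inr h3)), h.f.nd'' (.inl h4), h.f.nd'' (.inr h5)⟩,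
    h.z.trans (j.map_isConj h4)⟩

theorem J.conj (h : J t φ j) (k : PH) : ∃ j', J t φ j' ∧ ∀ a, j' a = j (k * a * k⁻¹) :=
  have c : ∀ a, IsConj a (k * a * k⁻¹) := fun _ => isConj_iff.2 ⟨k, rfl⟩
  ⟨_, h.comp (MulAut.conj k).toMonoidHom (MulAut.conj k).bijective (mul_inv_eq_iff_eq_mul.2 (t_comm k)) (c _) (c _) (c _)
    (c _), fun _ => rfl⟩

theorem J.del (h : J t φ j) : J t φ (j.comp δ) :=
  h.comp δ (Function.Involutive.bijective fun a => by
    by_cases ha : a ∈ K
    · rw [δ_mem ha, δ_mem ha]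
    · rw [δ_out ha, map_mul, δ_out ha, δ_mem t_K, mul_assoc, t_sq, mul_one]) (δ_mem t_K) (by rw [δ_mem u_K])
    (δ_out c_K ▸ c_ct) (by rw [δ_mem z_K]) (by rw [δ_out d_K, t_comm]; exact d_td)

/-- the listed sources can be matched with the listed images -/
def St (t : G) (φ : PH →* G) (srcs imgs : List (List ℕ)) : Prop := ∃ j, J t φ j ∧ Maps (Gr φ j) el srcs imgs

theorem cand_sound (h : Fz t t φ) (hJ : J t φ j) {srcs imgs ch : List (List ℕ)} {a l : List ℕ} {ts : List (Bool × Eqn)}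
    {gd : List (ℕ × ℕ)} {bd : List (ℕ × (ℕ × ℕ) × ℕ × ℕ)} (hM : Maps (Gr φ j) el srcs imgs)
    (hl : φ (evL el a) = j (evL el l)) (h2 : candB srcs imgs ch a ts gd bd l = true)
    (h1 : allL (valB bs x0 (a :: srcs)) ts = true) : ∃ w ∈ ch, St t φ (a :: srcs) (w :: imgs) := by
  rw [candB, tests_hold (graph_Gr h.inj hJ.f.inj) (List.Forall₂.cons hl hM) h1] at h2
  rcases (bor_eq_true.1 h2).imp anyL_sound anyL_sound with ⟨e, -, h3⟩ | ⟨e, -, h3⟩
  · obtain ⟨a1, h4⟩ := band_eq_true.1 h3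
    obtain ⟨a2, a3⟩ := band_eq_true.1 h4
    obtain ⟨j', hJ', hj⟩ := hJ.conj (ev el e.2)
    have key : ∀ {w w' : List ℕ}, ck (e.2 :: w, app w' [e.2]) = true → j' (evL el w) = j (evL el w') := fun b => by
      have := ckE b
      rw [evL_cons, app_eq, evL_append, evL_one] at this
      rw [hj, this, mul_inv_cancel_right]
    refine ⟨_, nth_mem [] ch (lenL_eq ch ▸ lt_of_blt a1), j', hJ', List.Forall₂.cons (hl.trans (key a2).symm) ?_⟩
    have a4 := allL_sound a3
    clear h1 h2 a3 h3 h4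
    induction hM with
    | nil => exact List.Forall₂.nil
    | cons b _ ih =>
      exact List.Forall₂.cons ((mem_Gr.1 b).trans (key (a4 _ List.mem_cons_self)).symm)
        (ih fun w hw => a4 w (List.mem_cons_of_mem _ hw))
  · have a1 : φ (evL el (app a (nth [] srcs e.1))) = j (evL el (app l (nth [] imgs e.1))) := by
      rw [app_eq, app_eq, evL_append, evL_append, map_mul, map_mul, hl]
      exact congrArg _ (hM.gLL e.1)
    rcases bor_eq_true.1 h3 with b | b <;> obtain ⟨b1, b2⟩ := band_eq_true.1 b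
    · exact absurd (a1 ▸ h.dd' (ddB_sound b2)) (hJ.f.nd'' (ndB_sound b1))
    · exact absurd (a1 ▸ hJ.f.dd' (ddB_sound b1)) (h.nd'' (ndB_sound b2))

theorem stC (h : Fz t t φ) {srcs imgs ch : List (List ℕ)} {a sf : List ℕ} {n : ℕ} {ts : List (Bool × Eqn)}
    {gd : List (ℕ × ℕ)} {bd : List (ℕ × (ℕ × ℕ) × ℕ × ℕ)} (hS : St t φ srcs imgs) (i : ℕ)
    (h2 : overC a sf n (candB srcs imgs ch a ts gd bd) = true) (hD : DD (evL el a))
    (hi : nth [] srcs i = [6] ∧ nth [] imgs i = [6] := by decide)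
    (h1 : allL (valB bs x0 (a :: srcs)) ts = true := by decide +kernel)
    (hu : ck (app a [3], 3 :: a) = true := by decide +kernel) : ∃ w ∈ ch, St t φ (a :: srcs) (w :: imgs) := by
  obtain ⟨j, hJ, hM⟩ := hS
  obtain ⟨b, hb⟩ := hJ.f.ex hJ.f.ft.symm (x := φ (evL el a)) (h.dd' hD) (by
    have := ckE hu
    rw [app_eq, evL_append, evL_one, evL_cons, ev3] at this
    rw [← map_mul, this, map_mul])
  have hρ := hM.gLL i
  rw [gLL, gLL, hi.1, hi.2, evL_one, ev6] at hρ
  obtain ⟨l, rfl, h3⟩ := overC_sound (graph_Gr h.inj hJ.f.inj) hρ h2 hb.symm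
  exact cand_sound h hJ hM hb.symm h3 h1

theorem stA [Finite G] (h : Fz t t φ) : St t φ [[6], [3], [1]] [[6], [1], [3]] := by
  obtain ⟨g, hg⟩ := isConj_iff.1 h.cu
  have c : ∀ a, IsConj (φ a) (g * φ a * g⁻¹) := fun _ => isConj_iff.2 ⟨g, rfl⟩
  have hJ : J t φ ((MulAut.conj g).toMonoidHom.comp φ) :=
    ⟨⟨(MulAut.conj g).injective.comp h.inj, by simpa [h.ft] using hg, fun x x1 e => by
      obtain ⟨a, ha⟩ := h.rng (g⁻¹ * x * g) (isConj_conj' x1 g) (comm_conj' (hg ▸ e))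
      exact ⟨a, by simp [ha, mul_assoc]⟩, h.cu, h.cu.trans (c _), h.cc.trans (c _),
      fun e => h.nz (e.trans (c _).symm), fun e => h.nd (e.trans (c _).symm)⟩, c _⟩
  generalize (MulAut.conj g).toMonoidHom.comp φ = j at hJ
  obtain ⟨a, ha⟩ := hJ.f.ex hJ.f.ft.symm (x := φ tP) (h.ft ▸ .refl t) (by rw [← map_mul, ← map_mul, t_comm])
  have a1 : a * a = 1 := hJ.f.inj (by rw [map_mul, ha, ← map_mul, t_sq, map_one, map_one])
  have a2 : a ≠ 1 := fun e => t_ne (h.inj (by rw [← ha, e, map_one, map_one]))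
  have a3 : ¬ DD (tP * a) := fun e => h.nz (by
    have := hJ.f.dd' e
    rwa [map_mul, ha, hJ.f.ft, ← map_mul, t_comm, ← z_eq] at this)
  obtain ⟨k, rfl⟩ : ∃ k, k * uP * k⁻¹ = a := by
    rcases (cls a1 a2).resolve_right fun e => hJ.f.nd'' e (by rw [ha, h.ft]) with e | e | e
    · exact absurd (h.inj (by rw [← ha, t_conj e, hJ.f.ft])) (show tP ≠ uP from pkn [0] [2])
    · exact isConj_iff.1 e
    · exact absurd (.inr (.inr ((t_comm cP ▸ c_ct).trans (t_mul e)))) a3
  obtain ⟨j, hJ', hj⟩ := hJ.conj k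
  have b1 : j uP = φ tP := (hj _).trans ha
  obtain ⟨b, hb⟩ : φ ρP ∈ j.range := by
    rw [show ρP = el 7 * (el 7 * el 5) from (pke [5] [7, 7, 5]).trans (mul_assoc _ _ _), map_mul]
    exact mul_mem (hJ'.f.ex hJ'.f.ft.symm (h.dd' (.inr (.inl (cjk [22, 10] [2] [7])))) (by
      rw [← map_mul, ← map_mul]; exact congrArg φ (pke [7, 2] [2, 7])))
      (hJ'.f.ex hJ'.f.ft.symm (h.dd' (.inr (.inl (cjk [23, 10] [2] [7, 5])))) (by
        rw [← map_mul, ← map_mul, ← mul_assoc]; exact congrArg φ (pke [7, 5, 2] [2, 7, 5])))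
  obtain ⟨k, hk, rfl⟩ := ord3_P (b := b)
    (mem_PP.2 (hJ'.f.inj (by rw [map_mul, map_mul, hb, b1, ← map_mul, t_comm, map_mul])))
    (hJ'.f.inj (by rw [map_pow, hb, ← map_pow, powk 5 3, map_one, map_one]))
    fun e => ρ_ne (h.inj (by rw [← hb, e, map_one, map_one]))
  obtain ⟨j', hJ, hj⟩ := hJ'.conj k
  refine ⟨j', hJ, .cons ?_ (.cons ?_ (.cons ?_ .nil))⟩ <;> simp only [mem_Gr, evL_one, ev1, ev3, ev6]
  exacts [((hj _).trans hb).symm, hJ.f.ft.symm, by rw [hj, mem_PP.1 hk, mul_inv_cancel_right, b1]]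

theorem stE [Finite G] (h : Fz t t φ) : St t φ [[9], [8], [5], [4], [6], [3], [1]]
    [[25, 4, 18, 25], [4, 15], [4], [5], [6], [1], [3]] := by
  obtain ⟨_, e, s1⟩ := stC h (stA h) 0 c_B (.inr (.inr (by rw [evL_one, ev4])))
  obtain rfl := List.mem_singleton.1 e
  obtain ⟨w, e, s2⟩ := stC h s1 1 c_C (.inr (.inl (by rw [evL_one, ev5]; exact u_v)))
  have s3 : St t φ [[5], [4], [6], [3], [1]] [[4], [5], [6], [1], [3]] := by
    rcases List.mem_pair.1 e with rfl | rfl
    · exact s2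
    obtain ⟨j, hJ, hM⟩ := s2
    simp only [Maps, List.forall₂_cons, mem_Gr, evL_one, evL_two, ev1, ev3, ev4, ev5, ev6] at hM
    refine ⟨_, hJ.del, ?_⟩
    simp only [Maps, List.forall₂_cons, mem_Gr, evL_one, ev1, ev3, ev4, ev5, ev6, MonoidHom.comp_apply, δ_out c_K,
      δ_mem t_K, δ_mem u_K, δ_mem v_K, δ_mem (el_K 5)]
    exact ⟨hM.1, hM.2.1, hM.2.2.1, hM.2.2.2.1, hM.2.2.2.2.1, .nil⟩
  obtain ⟨_, e, j, hJ, hM⟩ := stC h s3 2 c_D (.inr (.inl (by rw [evL_one, evk 7]; exact cjk [22, 10] [2] [7])))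
  obtain rfl := List.mem_singleton.1 e
  have h1 : φ tP = j uP := mwd hM [6] [0] [2]
  obtain ⟨b, hb⟩ := hJ.f.ex hJ.f.ft.symm (x := φ (el 8)) (h.dd' (.inr (.inl (cjk [4, 8, 7, 9] [2] [8]))))
    (by rw [← map_mul, ← map_mul]; exact congrArg φ (pke [8, 2] [2, 8]))
  have h2 : j zP = φ zP := by rw [z_eq, map_mul, ← h1, hJ.f.ft, ← map_mul, t_comm]
  obtain ⟨w, hw, rfl⟩ := cls_c (b := b) (mem_PP.2 (hJ.f.inj (by rw [map_mul, map_mul, hb, ← h1, ← map_mul, t_comm, map_mul])))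
    (hJ.f.inj (by rw [map_mul, hb, ← map_mul, map_one]; exact (congrArg φ (pke [8, 8] [])).trans (map_one φ)))
    (fun e => (show el 8 ≠ 1 from pkn [8] []) (h.inj (by rw [← hb, e, map_one, map_one])))
    (fun e => hJ.f.nd'' e (hb ▸ h.dd' (.inr (.inl (cjk [4, 8, 7, 9] [2] [8])))))
    (fun e => hJ.f.nd'' e (by rw [map_mul, hb, hJ.f.ft, ← map_mul]; exact h.dd' (.inr (.inl (cjk [26, 22, 7, 9] [2] [8, 2])))))
    (fun e => h.nd'' (.inl (cjk [3, 24, 6, 7, 21, 9] [1] [8, 0]) : ND (el 8 * tP))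
      (by rw [map_mul, ← hb, h1, ← map_mul]; exact hJ.f.dd' e))
    (fun e => h.nd'' (.inl (cjk [3, 8, 6, 7, 21, 9] [1] [8, 1]) : ND (el 8 * zP))
      (by rw [map_mul, ← hb, ← h2, ← map_mul]; exact hJ.f.dd' e))
  obtain ⟨_, e, s⟩ := cand_sound h hJ hM (by rw [hb, evL_one, evk 8]) (allL_sound c_E w hw) (by decide +kernel)
  obtain rfl := List.mem_singleton.1 e
  exact s

/-- the fourth generator -/
theorem exists_τ [Finite G] (h : Fz t t φ) : ∃ τ ∈ closure {x | IsConj t x ∧ Commute x (φ uP)}, τ ^ 5 = 1 ∧ τ * φ (p 0) = φ (p 0) * τ ^ 3 ∧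
    φ (p 1) * τ = τ * φ (p 1) ∧ (φ (p 2) * τ) ^ 3 = 1 := by
  obtain ⟨j, hJ, hM⟩ := stE h
  have hw : φ (el 14) = j (el 7 * el 4) := mwd hM [0x0102040501040104, 0x0501030501040105] [14] [7, 4]
  have hc : φ cP = j vP := mwd hM [4] [3] [4]
  have hρ : φ ρP = j ρP := mwd hM [5] [5] [5]
  have e12 : el 12 = uP * (uP * el 12) := by rw [← mul_assoc, u_sq, one_mul]
  have d12 : IsConj t (j (uP * el 12)) := hJ.f.dd' (.inr (.inl (cjk [10, 12] [2] [2, 12])))
  have cm : ∀ v l l', (band (allL (fun m => Nat.ble m 254) (app l l')) _ = true) → pk (l' ++ [12]) (12 :: l') = true →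
      pr l ∈ (centralizer {j (el 12)}).comap φ := fun v l l' h1 h2 => mem_centralizer_singleton_iff.2 (by
    rw [mem_Gr.1 (mwd hM v l l' h1), ← map_mul, ← map_mul]
    exact congrArg j ((pr_append l' [12]).symm.trans ((pke _ _ h2).trans (pr_append [12] l'))))
  have hr : el 10 ∈ (centralizer {j (el 12)}).comap φ := by
    let f := (MulAut.conj (φ rP)).toMonoidHom.comp j
    have hf : ∀ {a b}, φ a = j b → rP * a = a * rP → (b, b) ∈ Gr f j := fun {a b} e e' => by
      change φ rP * j b * (φ rP)⁻¹ = j b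
      rw [← e, ← map_mul, e', map_mul, mul_inv_cancel_right]
    have hΓ : Graph (Gr f j) := graph_Gr ((MulAut.conj _).injective.comp hJ.f.inj) hJ.f.inj
    have e0 : f (tP * cP) = j tP := by
      change φ rP * j _ * (φ rP)⁻¹ = _
      rw [← show φ (uP * vP) = j (tP * cP) from mwd hM [6, 3] [2, 4] [0, 3], hJ.f.ft, ← map_mul, mul_inv_eq_iff_eq_mul,
        ← map_mul, ← mul_assoc]
      exact congrArg φ (pke [10, 2, 4] [2, 10])
    obtain ⟨b, hb⟩ : f (el 12) ∈ j.range := by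
      rw [e12, map_mul]
      exact mul_mem (hJ.f.ex e0 (isConj_conj hJ.f.cu _) (by
        rw [← map_mul, ← map_mul, ← mul_assoc]; exact congrArg f (pke [2, 0, 3] [0, 3, 2])))
        (hJ.f.ex e0 (isConj_conj d12 _) (by
          rw [← map_mul, ← map_mul, ← mul_assoc, ← mul_assoc]; exact congrArg f (pke [2, 12, 0, 3] [0, 3, 2, 12])))
    have e13 : evL el [13] = el 12 := (evL_one _ _).trans (evk 12)
    obtain ⟨l, rfl, h3⟩ := overC_sound hΓ (hf hρ ρr.symm) c_F (e13.symm ▸ hb.symm)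
    rw [tests_hold hΓ (srcs := [[13], [8, 5], [5]]) (.cons (e13.symm ▸ hb.symm) (.cons (by
      rw [evL_two, evk 7, ev5]; exact hf hw (pke [10, 14] [14, 10])) (.cons (by rw [evL_one, ev5]; exact hf hc rc) .nil)))
      (by decide +kernel)] at h3
    replace hb : φ rP * j (el 12) * (φ rP)⁻¹ = j (evL el l) := hb.symm
    refine mem_centralizer_singleton_iff.2 (mul_inv_eq_iff_eq_mul.1 ?_)
    rcases bor_eq_true.1 h3 with e | e <;> rw [ckE e] at hb
    · rwa [e13] at hb
    · rw [evL_one, evk 13, ← invk 12 13, map_inv] at hb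
      have a1 : φ rP * φ rP * j (el 12) * (φ rP * φ rP)⁻¹ = j (el 12) := by
        rw [show ∀ a b : G, a * a * b * (a * a)⁻¹ = a * (a * b * a⁻¹) * a⁻¹ by intros; group, hb, ← conj_inv, hb, inv_inv]
      have a2 : φ rP * φ rP = (φ rP)⁻¹ := eq_inv_of_mul_eq_one_left (by rw [← map_mul, ← map_mul, r_cube, map_one])
      rw [a2] at a1
      conv_lhs => rw [← a1]
      group
  have hA : InA el 0x7f4 ((centralizer {j (el 12)}).comap φ) := by
    have a5 : el 5 ∈ _ := cm [5] [5] [5] (by decide +kernel) (by decide +kernel)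
    have := ((((((InA.single (m := 2) (cm [6] [2] [0] (by decide +kernel) (by decide +kernel))).lor
      (.single (m := 4) (cm [3] [4] [3] (by decide +kernel) (by decide +kernel)))).lor (.single a5)).lor
      (.single (m := 6) (invk 5 6 ▸ inv_mem a5))).lor 
      (.single (m := 7) (cm [2] [7] [3, 14] (by decide +kernel) (by decide +kernel)))).lor
      (.single (m := 8) (cm [1] [8] [24, 3, 17, 24] (by decide +kernel) (by decide +kernel)))).lor
      ((InA.single (m := 9) (invk 10 9 ▸ inv_mem hr)).lor (.single hr))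
    exact this
  have ex : ∀ l v, allL (inA 0x7f4) v = true → ck (l, v) = true → φ (evL el l) * j (el 12) = j (el 12) * φ (evL el l) :=
    fun l v h1 h2 => mem_centralizer_singleton_iff.1 (ckE h2 ▸ evL_mem hA h1)
  refine ⟨j (el 12), ?_, by rw [← map_pow, powk 12 5, map_one], ?_, ?_, ?_⟩
  · rw [e12, map_mul]
    exact mul_mem (subset_closure ⟨hJ.f.cu, hJ.f.ft ▸ Commute.map (t_comm _) j⟩)
      (subset_closure ⟨d12, hJ.f.ft ▸ Commute.map (t_comm _) j⟩)
  · have a1 := ex [30, 15] [0x0b090a0509, 0x0a090a0509] (by decide +kernel) (by decide +kernel)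
    have a2 : j (el 12) * φ (el 14) = φ (el 14) * j (el 12) ^ 3 := by
      rw [hw, ← map_pow, ← map_mul, ← map_mul, pow_three', ← mul_assoc, ← mul_assoc, ← mul_assoc]
      exact congrArg j (pke [12, 7, 4] [7, 4, 12, 12, 12])
    rw [evL_two, evk 29, evk 14, ← invk 28 29, el28, map_mul, map_inv] at a1
    have a3 := (Commute.pow_right a1 3).inv_left.eq
    calc _ = j (el 12) * φ (el 14) * ((φ (p 0))⁻¹ * φ (el 14))⁻¹ := by group
      _ = _ := by rw [a2, mul_assoc, ← a3]; group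
  · have := ex [31] [0x050907090b05, 0x090b07090506] (by decide +kernel) (by decide +kernel)
    rwa [evL_one, evk 30, el30] at this
  · rw [← cP_eq, hc, ← map_mul, ← map_pow, pow_three', ← map_one j]
    simp only [← mul_assoc]
    exact congrArg j (pke [4, 12, 4, 12, 4, 12] [])

theorem exists_ψ [Finite G] (h : Fz t t φ) : ∃ ψ : HN →* G, (∀ a, ψ (π a) = φ a) ∧
    ψ (g 3) ∈ closure {x | IsConj t x ∧ Commute x (φ uP)} := by
  obtain ⟨τ, h0, h1, h2, h3, h4⟩ := exists_τ h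
  have hr : ∀ w ∈ CosetEnum.sqW [2] ++ RH ++ Rt, CosetEnum.ev (fun i => if i < 3 then φ (p i) else τ) w = 1 := fun w hw => by
    rcases List.mem_append.1 hw with hw | hw
    · rw [← map_one φ, ← p_rel w hw, CosetEnum.map_ev]
      exact HN.ev_congr fun x hx => if_pos ((by decide : ∀ w ∈ CosetEnum.sqW [2] ++ RH, ∀ x ∈ w, x / 2 < 3) w hw x hx)
    · simp only [Rt, List.mem_cons, List.not_mem_nil, or_false] at hw
      rcases hw with rfl | rfl | rfl | rfl
      · simpa [CosetEnum.ev, CosetEnum.evL, pow_succ, mul_assoc] using h1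
      · simp only [CosetEnum.ev, CosetEnum.evL, List.map, List.prod_cons, List.prod_nil]
        norm_num
        rw [← mul_assoc τ, h2, ← h1]; group
      · simp only [CosetEnum.ev, CosetEnum.evL, List.map, List.prod_cons, List.prod_nil]
        norm_num
        rw [← h3]; group
      · simpa [CosetEnum.ev, CosetEnum.evL, pow_succ, mul_assoc] using h4
  have e : (liftHN hr).comp π = φ := PresentedGroup.ext fun i => by
    change liftHN hr (π (p i)) = φ (p i)
    by_cases hi : i < 3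
    · rw [π_p hi, liftHN_g _ (by omega), if_pos hi]
    · simp [p_ge (not_lt.1 hi)]
  exact ⟨liftHN hr, DFunLike.congr_fun e, by rwa [liftHN_g _ (by norm_num), if_neg (by norm_num)]⟩

end CfsgLib.HNS
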