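import Cfsg.Agent.Lib.HNS.NotD
import Cfsg.Agent.Lib.HNS.Tau
import Cfsg.Agent.Lib.HNS.Ov

/-! Standard subgroup `2.HS`: the end of the proof -/

set_option autoImplicit false

namespace CfsgLib.HNS

open Subgroup CfsgLib.HN CfsgLib.HNR FusA Conn Cfsg.Spor

variable {G : Type*} [Group G] {t : G} {φ : PH →* G} {C : Subgroup G}

theorem locHN : LocQ (π tP) (π zP) (RP.map π) := by
  have := CfsgLib.HN.simple
  obtain ⟨φ', e', h'⟩ := Isoc.fus (G := HN) (t := π c2) (δ := 1) (f := π)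
    ⟨.inl rfl, π_inj, rfl, fun g => mem_range_iff.symm, fun a _ b => map_mul π a b,
      fun a b _ => map_mul π a b, fun a _ b _ => by rw [mul_one, map_mul]⟩
  obtain rfl : φ' = π := MonoidHom.ext e'
  have hR : RP.map π = RR (π zP) fun i => π (rE i) := by
    simp only [RR, MonoidHom.map_closure, Set.image_insert_eq, Set.image_image]
  rw [hR, tP_eq]
  exact h'.locQ h'.main.1

theorem eps_eps {ε : PH →* PH} (h : ε = MonoidHom.id _ ∨ ε = δ) (b : PH) : ε (ε b) = b := by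
  rcases h with rfl | rfl
  · rfl
  by_cases hb : b ∈ K
  · rw [δ_mem hb, δ_mem hb]
  · rw [δ_out hb, map_mul, δ_out hb, δ_mem t_K, mul_assoc, t_sq, mul_one]

theorem Amb.two (h : Amb t φ C) (n : ℕ) : ∀ κ ∈ C, (∀ a, Commute κ (φ a)) → κ ^ 2 ^ n = 1 → κ = 1 ∨ κ = t := by
  induction n with
  | zero => exact fun κ _ _ e => .inl (by simpa using e)
  | succ n ih =>
    exact fun κ a b e => h.inv κ a ((ih _ (mul_mem a a) (fun x => (b x).mul_left (b x))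
      (by rw [← pow_two, ← pow_mul, ← pow_succ', e])).resolve_right (h.no4 κ a b))

theorem Amb.iso [Finite G] [IsSimpleGroup G] (h : Amb t φ C) (hc : IsConj t (φ cP)) (hd : ¬ IsConj t (φ dP)) :
    Nonempty (G ≃* HN) := by
  have := CfsgLib.HN.simple
  have F : Fz t t φ := ⟨h.inj, h.ft, h.rng, .refl t, h.cu, hc, h.nz, hd⟩
  obtain ⟨ψ, hψ, h3⟩ := exists_ψ F
  have ht : ψ (π tP) = t := (hψ _).trans h.ft
  have inj : Function.Injective ψ := by
    rw [← MonoidHom.ker_eq_bot_iff]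
    exact (ψ.normal_ker.eq_bot_or_eq_top).resolve_right fun e => h.t1 (ht ▸ (e.ge (mem_top _) :))
  have le : ∀ a, φ a ∈ ψ.range := fun a => ⟨π a, hψ a⟩
  have O0 : Ov0 ψ (π tP) (π zP) (RP.map π) := ⟨locHN, inj, by rw [ht, hψ]; exact h.nz, fun x a b => by
    obtain ⟨y, rfl⟩ := h.rng x (ht ▸ a) (ht ▸ b); exact le y⟩
  have nC : ∀ κ ∈ C, ∀ x ∈ ψ.range, κ * x * κ⁻¹ ∈ ψ.range := fun κ hκ => by
    obtain ⟨ε, e1, e2⟩ := h.act κ hκ
    rintro _ ⟨x, rfl⟩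
    refine (closure_le ((ψ.range.comap (MulAut.conj κ).toMonoidHom).comap ψ)).2 ?_ (closure_top.ge (mem_top x))
    rintro _ (⟨a, rfl⟩ | rfl)
    · change κ * ψ (π a) * κ⁻¹ ∈ ψ.range
      rw [hψ, e2]; exact le _
    · refine (closure_le (ψ.range.comap (MulAut.conj κ).toMonoidHom)).2 (fun x hx => ?_) h3
      refine O0.cl (ht ▸ h.cu) (le _) (ht ▸ cjc κ hx.1) ?_
      have := comm_conj hx.2 κ
      rwa [e2, eps_K e1 u_K] at this
  have nC' : ∀ κ ∈ C, κ ∈ normalizer (ψ.range : Set G) := fun κ hκ => Tech.mem_normalizer_of_forall (nC κ hκ)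
  have dd : ∀ {a}, DD a → IsConj (π tP) (π a) := fun e => O0.cD.1 (by rw [ht, hψ]; exact F.dd' e)
  have tR : tP ∈ RP := RP_eq ▸ mcl 0
  have O : Ov ψ (π tP) (π zP) (RP.map π) := by
    refine ⟨O0, fun g hg => ?_, fun p h1 h2 => ?_, fun y h1 h2 => ?_⟩
    · obtain ⟨a, κ, hκ, rfl⟩ := h.dec g (ht ▸ hg)
      exact mul_mem (le_normalizer (le a)) (nC' κ hκ)
    · obtain ⟨a, κ, -, ε, -, e1, -, e2⟩ := h.dec' (x := p) (ht ▸ h1)
      rw [hψ] at h2
      have ha : a ∈ PP := z_iff.1 (mul_inv_eq_iff_eq_mul.1 (h.inj (by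
        rw [← mul_inv_eq_iff_eq_mul.2 h2, e2, eps_K e1 z_K])))
      have e3 : ∀ y, p * p * φ y * (p * p)⁻¹ = φ (a * a * y * (a * a)⁻¹) := fun y => by
        rw [show p * p * φ y * (p * p)⁻¹ = p * (p * φ y * p⁻¹) * p⁻¹ by group, e2, e2, map_mul ε, map_mul ε, map_inv,
          eps_eps e1]
        congr 1
        rcases eps_or e1 a with e | e <;> rw [e]
        · group
        · rw [mul_assoc a tP, ← t_comm]; group
      simp only [hψ]
      refine ⟨?_, ?_⟩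
      · rintro _ ⟨y, hy, rfl⟩
        refine ⟨_, mem_map_of_mem π (RP_eq ▸ R_norm ha (?_ : ε y ∈ RC)), by rw [hψ, hψ, e2]⟩
        rcases e1 with rfl | rfl
        exacts [RP_eq ▸ hy, δ_R (RP_eq ▸ hy)]
      rcases act2 (mem_PP.1 ha) e1 with ⟨l, l1, l2, e⟩ | ⟨y, hy, e⟩ | ⟨y, hy, e, e'⟩
      · exact .inl ⟨_, mem_map_of_mem π l1.1, dd l1.2.1, map_mul π tP l ▸ dd l2.2.1, by
          simpa only [hψ, e2, ← map_mul φ, h.inj.eq_iff] using e⟩
      · exact .inr (.inl ⟨_, mem_map_of_mem π hy, by simpa only [hψ, e2, ← map_mul φ, h.inj.eq_iff] using e⟩)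
      · exact .inr (.inr ⟨_, mem_map_of_mem π hy, by
          simpa only [hψ, e3, ← map_mul φ, Ne, h.inj.eq_iff] using And.intro e e'⟩)
    · replace h2 : ∀ r ∈ RP, y * φ r = φ r * y := fun r hr => hψ r ▸ h2 _ (mem_map_of_mem π hr)
      obtain ⟨a, κ, hκ, ε, rfl, e1, e2, e3⟩ := h.dec' (x := y) (h.ft ▸ h2 _ tR)
      have e4 : φ (a * ε a) = (κ * κ)⁻¹ := eq_inv_of_mul_eq_one_left (by rw [← h1, map_mul, ← e2]; group)
      have e5 := h.inter _ (e4 ▸ inv_mem (mul_mem hκ hκ))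
      have uR := (gens_W uP (by simp [gens])).2.2
      have key : a ∈ RP → a ∈ K → a * a = 1 → φ a * κ ∈ (RP.map π).map ψ := fun a1 a2 a3 => by
        rw [eps_K e1 a2, a3, map_one, eq_comm, inv_eq_one] at e4
        refine mul_mem ⟨_, mem_map_of_mem π a1, hψ a⟩ ?_
        rcases h.inv κ hκ e4 with rfl | rfl
        exacts [one_mem _, ⟨_, mem_map_of_mem π tR, ht⟩]
      rcases cenW' (a := a) fun x hx => mul_inv_eq_iff_eq_mul.1 (h.inj (by
        rw [← mul_inv_eq_iff_eq_mul.2 (h2 x (gens_W x hx).2.2), e3, eps_K e1 (gens_K hx)])) with e | e | e | e | e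
      · exact key (e ▸ one_mem _) (e ▸ one_mem _) (by rw [e, one_mul])
      · exact key (e ▸ tR) (e ▸ t_K) (e ▸ t_sq)
      · exact key (e ▸ uR) (e ▸ u_K) (e ▸ u_sq)
      · exact key (e ▸ z_eq ▸ mul_mem tR uR) (e ▸ z_K) (e ▸ z_sq')
      · exfalso
        rcases eps_or e1 a with e' | e' <;> rw [e'] at e5
        · exact (e.1 ▸ e5).elim z_ne z_ne_t
        · rw [← mul_assoc, e.1, z_eq, ← t_comm, mul_assoc, t_sq, mul_one] at e5
          exact e5.elim u_ne u_ne_t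
  let M : Subgroup G :=
    { carrier := {x | ∃ k ∈ C, (∀ a, Commute k (φ a)) ∧ x * k ∈ ψ.range}
      one_mem' := ⟨1, one_mem _, fun _ => .one_left _, by simp⟩
      mul_mem' := by
        rintro x y ⟨k, k1, k2, k3⟩ ⟨l, l1, l2, l3⟩
        exact ⟨l * k, mul_mem l1 k1, fun a => (l2 a).mul_left (k2 a), by
          simpa [mul_assoc] using mul_mem k3 (nC _ (inv_mem k1) _ l3)⟩
      inv_mem' := by
        rintro x ⟨k, k1, k2, k3⟩
        exact ⟨k⁻¹, inv_mem k1, fun a => (k2 a).inv_left, by simpa [mul_assoc] using inv_mem (nC _ k1 _ k3)⟩ }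
  have gM : ∀ x ∈ ψ.range, x ∈ M := fun x hx => ⟨1, one_mem _, fun _ => .one_left _, by rwa [mul_one]⟩
  have kM : ∀ k ∈ C, (∀ a, k * φ a * k⁻¹ = φ a) → k ∈ M := fun k k1 k2 =>
    ⟨k⁻¹, inv_mem k1, fun a => Commute.inv_left (mul_inv_eq_iff_eq_mul.1 (k2 a)), by simp⟩
  have dN : ∀ a ∈ normalizer (ψ.range : Set G), a ∈ M ∨
      ∃ x ∈ ψ.range, ∃ κ ∈ C, a = x * κ ∧ ∀ b, κ * φ b * κ⁻¹ = φ (δ b) := fun a ha => by
    obtain ⟨k, c, c1, rfl⟩ := O0.fr ((mem_normalizer_iff.1 ha _).1 ⟨_, rfl⟩)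
    obtain ⟨a, κ, hκ, ε, rfl, rfl | rfl, e, -⟩ := h.dec' (x := c) (ht ▸ c1)
    · exact .inl (mul_mem (gM _ ⟨k, rfl⟩) (mul_mem (gM _ (le a)) (kM κ hκ e)))
    · exact .inr ⟨_, mul_mem ⟨k, rfl⟩ (le a), κ, hκ, (mul_assoc _ _ _).symm, e⟩
  refine ⟨(MulEquiv.ofBijective ψ ⟨inj, O.surj (M := M) ?_ fun a ha b hb => ?_⟩).symm⟩
  · rintro w ⟨k, k1, k2, k3⟩ hw
    have e1 : k * k ∈ ψ.range := by
      have := mul_mem k3 (nC _ (inv_mem k1) _ k3)
      have e : w * k * (k⁻¹ * (w * k) * k⁻¹⁻¹) = w * w * (k * k) := by group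
      rwa [e, hw, one_mul] at this
    obtain ⟨n, m, ⟨j, rfl⟩, e2⟩ := Nat.exists_eq_two_pow_mul_odd (orderOf_pos k).ne'
    obtain ⟨x, e3⟩ := h.mr (h.two n _ (pow_mem k1 _) (fun a => (k2 a).pow_left _)
      (by rw [← pow_mul, mul_comm, ← e2, pow_orderOf_eq_one]))
    have e4 := le x
    rw [e3, pow_succ, pow_mul, pow_two, mul_mem_cancel_left (pow_mem e1 j)] at e4
    exact (mul_mem_cancel_right e4).1 k3
  · rcases dN a ha with e | ⟨x, hx, κ, hκ, rfl, e⟩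
    · exact .inl e
    rcases dN b hb with e' | ⟨x', hx', κ', hκ', rfl, e'⟩
    · exact .inr (.inr e')
    refine .inr (.inl ?_)
    rw [show x' * κ' * (x * κ) = x' * (κ' * x * κ'⁻¹) * (κ' * κ) by group]
    exact mul_mem (gM _ (mul_mem hx' (nC _ hκ' _ hx))) (kM _ (mul_mem hκ' hκ) fun b => by
      rw [show κ' * κ * φ b * (κ' * κ)⁻¹ = κ' * (κ * φ b * κ⁻¹) * κ'⁻¹ by group, e, e', eps_eps (.inr rfl)])

theorem main [Finite G] [IsSimpleGroup G] (hG : ¬ IsMulCommutative G) {L : Subgroup G} (hL : Cfsg.IsStandardSubgroup L)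
    (hZ : Nat.card (center L) = 2) (e : L ⧸ center L ≃* HS) : Nonempty (G ≃* HN) := by
  obtain ⟨f, E⟩ := exists_em hL hZ e
  obtain ⟨t, φ, C, h, ⟨a, b⟩ | ⟨a, g, b, c, d⟩⟩ := E.exists_amb hG
  exacts [h.iso a b, (h.notD a b c d).elim]

end CfsgLib.HNS
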