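import Cfsg.Agent.Lib.StdInt.Amb

/-! Standard subgroup `2.HS`: the lemmas of `StdInt.Half` on commuting conjugates under weaker hypotheses -/

set_option autoImplicit false

namespace CfsgLib.HNS

open Subgroup Cfsg
open CfsgLib.StdInt hiding Pair

variable {G : Type*} [Group G] {L K L' K' : Subgroup G} {t s : G}

/-- the facts about `L` in the ambient group -/
structure Fw (L K : Subgroup G) (t : G) : Prop extends Half L K t where
  tight : ∀ g, ¬Commute g t → ∀ x ∈ K, x ∈ cj g K → Odd (orderOf x)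
  nrm : ∀ s ∈ L, ∀ w ∈ L, s * s = 1 → s ≠ 1 → s ≠ t → Odd (orderOf w) → Commute w s →
    Odd (Nat.card (NG L s w)) ∨ ∃ r ∈ NG L s w, r * r = 1 ∧ r ≠ 1 ∧ r ≠ s
  fix : ∀ s ∈ L, ∀ h, s * s = 1 → s ≠ 1 → s ≠ t → Commute h t → h * h = 1 →
    (∀ v ∈ WG L s, Two v → Commute h v) → h ∈ K ∨ h * s ∈ K

/-- two commuting involutions with their subgroups -/
structure Pair (L K L' K' : Subgroup G) (t s : G) : Prop where
  a : Fw L K t
  b : Half L' K' s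
  c : Commute s t
  od : ∀ x ∈ K, x ∈ K' → Odd (orderOf x)

namespace Pair

variable (p : Pair L K L' K' t s)
include p

theorem sK : s ∉ K := fun h => p.b.ne (eq_one_of_odd_sq (p.od s h p.b.tK) p.b.sq)

theorem tK : t ∉ K' := fun h => p.a.ne (eq_one_of_odd_sq (p.od t p.a.tK h) p.a.sq)

theorem ne : s ≠ t := fun e => p.sK (e ▸ p.a.tK)

theorem alpha {r : G} (h1 : r ∈ L) (h2 : r ∈ K') (h3 : r * r = 1) (h4 : r ≠ 1) : r = s := by
  have h5 := p.b.invC r h2 h3 h4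
  have h6 : Commute s r := (p.b.cK h2).symm
  rcases p.a.fix r h1 s h3 h4 (fun e => p.tK (e ▸ h2)) p.c p.b.sq
    (fun v hv _ => (h5 v (WG_comm hv)).symm) with h | h
  · exact absurd h p.sK
  · have h7 := eq_one_of_odd_sq (p.od _ h (mul_mem p.b.tK h2))
      (by rw [mul_assoc, ← mul_assoc r, ← h6.eq, mul_assoc s, h3, mul_one, p.b.sq])
    rw [← p.b.sq, mul_right_inj] at h7
    exact h7

/-- the odd elements of `C_K(s)` that are central modulo `K'` -/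
def M : Subgroup G where
  carrier := {β | β ∈ K ∧ Commute β s ∧ Odd (orderOf β) ∧ ∀ b ∈ K, Commute b s → β * b * β⁻¹ * b⁻¹ ∈ K'}
  one_mem' := ⟨one_mem _, Commute.one_left s, by simp, fun b _ _ => by simp⟩
  inv_mem' := fun {β} h => ⟨inv_mem h.1, h.2.1.inv_left, odd_inv h.2.2.1, fun b hb hc => by
    simpa [mul_assoc] using p.b.nK _ h.2.1.inv_left _ (inv_mem (h.2.2.2 b hb hc))⟩
  mul_mem' := fun {β γ} h h' => by
    refine ⟨mul_mem h.1 h'.1, h.2.1.mul_left h'.2.1, ?_, fun b hb hc => by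
      simpa [mul_assoc] using mul_mem (p.b.nK _ h.2.1 _ (h'.2.2.2 b hb hc)) (h.2.2.2 b hb hc)⟩
    have k : ∀ n : ℕ, (β * γ) ^ n * (β ^ n * γ ^ n)⁻¹ ∈ K' := fun n => by
      induction n with
      | zero => simp
      | succ n ih =>
        have h1 := h'.2.2.2 (β ^ n) (pow_mem h.1 n) (h.2.1.pow_left n)
        have h2 := p.b.nK _ h.2.1 _ (mul_mem (p.b.nK _ h'.2.1 _ ih) h1)
        convert h2 using 1
        rw [pow_succ' (β * γ), pow_succ' β, pow_succ' γ]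
        group
    have h1 := k (orderOf β * orderOf γ)
    rw [pow_mul β, pow_orderOf_eq_one, one_pow, mul_comm (orderOf β), pow_mul γ, pow_orderOf_eq_one, one_pow,
      mul_one, inv_one, mul_one] at h1
    have h2 := p.od _ (pow_mem (mul_mem h.1 h'.1) _) h1
    exact odd_of_pow ((h'.2.2.1.mul h.2.2.1).mul h2) (by rw [pow_mul, pow_orderOf_eq_one])

/-- the part of `C_L(s)` seen in a subgroup `J` -/
def Pt (J : Subgroup G) : Subgroup G where
  carrier := {x | x ∈ L ∧ Commute x s ∧ ∃ β ∈ p.M, x * β ∈ J}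
  one_mem' := ⟨one_mem _, Commute.one_left s, 1, one_mem _, by simp⟩
  inv_mem' := fun {x} ⟨h1, h2, β, h3, h4⟩ => ⟨inv_mem h1, h2.inv_left, β⁻¹, inv_mem h3, by
    rw [← mul_inv_rev, ← (p.a.comm x h1 β h3.1).eq]; exact inv_mem h4⟩
  mul_mem' := fun {x y} ⟨h1, h2, β, h3, h4⟩ ⟨k1, k2, γ, k3, k4⟩ =>
    ⟨mul_mem h1 k1, h2.mul_left k2, β * γ, mul_mem h3 k3, by
      rw [mul_assoc, ← mul_assoc y, (p.a.comm y k1 β h3.1).eq, mul_assoc, ← mul_assoc]; exact mul_mem h4 k4⟩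

theorem two_Pt {J : Subgroup G} {x : G} (h : x ∈ p.Pt J) (h2 : Two x) : x ∈ J := by
  obtain ⟨h1, -, β, h3, h4⟩ := h
  refine mem_of_pow_odd h2 h3.2.2.1 ?_
  have := pow_mem h4 (orderOf β)
  rwa [(p.a.comm x h1 β h3.1).mul_pow, pow_orderOf_eq_one, mul_one] at this

theorem comm_Y {y b : G} (hy : y ∈ p.Pt (WG L' t)) (hb : b ∈ K') (hc : Commute b t) : Commute b y := by
  obtain ⟨h1, -, β, h3, h4⟩ := hy
  exact mul_inv_eq_iff_eq_mul.1 (p.a.uniq (p.a.nL b hc y h1) (p.a.nK b hc β h3.1) h1 h3.1 (odd_conj b h3.2.2.1)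
    h3.2.2.1 (by rw [conj_mul, ← (p.b.comm _ (WG_le h4).1 b hb).eq, mul_inv_cancel_right])).1

theorem comm_XY {x y : G} (hx : x ∈ p.Pt K') (hy : y ∈ p.Pt (WG L' t)) : Commute x y := by
  obtain ⟨h1, -, β, h3, h4⟩ := hx
  have h5 := p.comm_Y hy h4 ((p.a.cL h1).mul_left (p.a.cK h3.1))
  simpa using h5.mul_left (p.a.comm y hy.1 β h3.1).symm.inv_left

theorem dec_K {b : G} (hb : b ∈ K') (hc : Commute b t) (ho : Odd (orderOf b)) :
    ∃ x ∈ p.Pt K', ∃ β ∈ p.M, b = x * β ∧ Odd (orderOf x) := by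
  obtain ⟨x, hx, β, hβ, rfl, o1, o2, c1, c2⟩ := p.a.dec2 hc (p.b.cK hb) p.c ho
  have h : β ∈ p.M := ⟨hβ, c2, o2, fun b h1 h2 => by
    have h3 := mul_mem hb (p.b.nK b h2 _ (inv_mem hb))
    have h4 := (p.a.comm x hx _ (mul_mem (mul_mem hβ h1) (inv_mem hβ))).eq
    convert h3 using 1
    calc _ = x * (β * b * β⁻¹) * x⁻¹ * b⁻¹ := by rw [h4, mul_inv_cancel_right]
      _ = _ := by group⟩
  exact ⟨x, ⟨hx, c1, β, h, hb⟩, β, h, rfl, o1⟩

theorem dec_L {w : G} (hw : w ∈ L) (hc : Commute w s) (ho : Odd (orderOf w)) :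
    ∃ x ∈ p.Pt K', ∃ y ∈ p.Pt (WG L' t), w = y * x ∧ Odd (orderOf x) := by
  obtain ⟨a', ha, b', hb, rfl, o1, o2, c1, c2⟩ := p.b.dec2 hc (p.a.cL hw) p.c.symm ho
  obtain ⟨x, hx, β, hβ, rfl, o3⟩ := p.dec_K hb c2 o2
  obtain ⟨y, hy, γ, hγ, rfl, o4, o5, c3, c4⟩ := p.a.dec2 c1 (p.b.cL ha) p.c o1
  obtain ⟨e1, e2⟩ := p.a.uniq (mul_mem hy hx.1) hγ hw (inv_mem hβ.1) o5 (odd_inv hβ.2.2.1)
    (by rw [mul_assoc y, (p.a.comm x hx.1 γ hγ).eq]; group)
  exact ⟨x, hx, y, ⟨hy, c3, γ, e2 ▸ inv_mem hβ, subset_closure ⟨ha, o1, c1.symm⟩⟩, e1.symm, o3⟩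

variable [Finite G]

theorem odd_NG {x : G} (hx : x ∈ p.Pt K') (ho : Odd (orderOf x)) : Odd (Nat.card (NG L s x)) := by
  have h1 : NG L s x ≤ p.Pt K' := (closure_le _).2 (by
    rintro _ ⟨a, ha, hc, rfl⟩
    obtain ⟨h1, h2, β, h3, h4⟩ := hx
    refine ⟨mul_mem (mul_mem ha h1) (inv_mem ha), (hc.mul_left h2).mul_left hc.inv_left, β, h3, ?_⟩
    rw [mul_assoc, (p.a.comm _ (inv_mem ha) β h3.1).eq, ← mul_assoc, mul_assoc a]
    exact p.b.nK a hc _ h4)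
  have h2 : ∀ r ∈ NG L s x, r * r = 1 → r ≠ 1 → r = s := fun r hr r1 r2 =>
    p.alpha (h1 hr).1 (p.two_Pt (h1 hr) (two_of_sq r1)) r1 r2
  by_contra h
  obtain ⟨r, hr, r1, r2⟩ := exists_invol h
  obtain ⟨r, hr, r1, r2, r3⟩ := (p.a.nrm s (h2 r hr r1 r2 ▸ (h1 hr).1) x hx.1 p.b.sq p.b.ne p.ne ho
    hx.2.1).resolve_left h
  exact r3 (h2 r hr r1 r2)

theorem key {v : G} (hv : v ∈ WG L s) (h2 : Two v) : v ∈ p.Pt (WG L' t) := by
  let A := L ⊓ centralizer {s}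
  let O := (pPrimeCore 2 A).map A.subtype
  have hO : Odd (Nat.card O) := Nat.coprime_two_right.1 (Core.coprime_card_map_pPrimeCore A)
  have h1 : ∃ x ∈ p.Pt K' ⊓ O, ∃ y ∈ p.Pt (WG L' t), v = y * x := by
    clear h2
    induction hv using closure_induction with
    | mem w hw =>
      obtain ⟨x, hx, y, hy, e, o⟩ := p.dec_L hw.1 hw.2.2.symm hw.2.1
      refine ⟨x, ⟨hx, Core.le_map_pPrimeCore (N := NG L s x) ?_ ?_
        (Nat.coprime_two_right.2 (p.odd_NG hx o)) (subset_closure ⟨1, one_mem _, Commute.one_left s, by simp⟩)⟩,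
        y, hy, e⟩
      · refine (closure_le _).2 ?_
        rintro _ ⟨a, ha, hc, rfl⟩
        exact mem_inf.2 ⟨mul_mem (mul_mem ha hx.1) (inv_mem ha),
          mem_centralizer_singleton_iff.2 ((hc.mul_left hx.2.1).mul_left hc.inv_left)⟩
      · exact fun a ha => mem_normalizer_fintype fun z hz =>
          conj_mem_NG ha.1 (mem_centralizer_singleton_iff.1 ha.2) hz
    | one => exact ⟨1, one_mem _, 1, one_mem _, by simp⟩
    | mul a b _ _ ha hb =>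
      obtain ⟨x, hx, y, hy, rfl⟩ := ha
      obtain ⟨x', hx', y', hy', rfl⟩ := hb
      exact ⟨x * x', mul_mem hx hx', y * y', mul_mem hy hy', by
        rw [mul_assoc, ← mul_assoc x, (p.comm_XY hx.1 hy').eq]; group⟩
    | inv a _ ha =>
      obtain ⟨x, hx, y, hy, rfl⟩ := ha
      exact ⟨x⁻¹, inv_mem hx, y⁻¹, inv_mem hy, by rw [← (p.comm_XY hx.1 hy).eq, mul_inv_rev]⟩
  obtain ⟨x, hx, y, hy, rfl⟩ := h1
  refine mem_of_pow_odd h2 (odd_of_mem hO hx.2) ?_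
  rw [(p.comm_XY hx.1 hy).symm.mul_pow, pow_orderOf_eq_one, mul_one]
  exact pow_mem hy _

/-- the 2-elements of `O²(C_L(s))` lie in `O²(C_{L'}(t))` -/
theorem two_mem {v : G} (hv : v ∈ WG L s) (h2 : Two v) : v ∈ WG L' t := p.two_Pt (p.key hv h2) h2

theorem two_comm {v b : G} (hv : v ∈ WG L s) (h2 : Two v) (hb : b ∈ K') (hc : Commute b t) : Commute b v :=
  p.comm_Y (p.key hv h2) hb hc

end Pair

theorem Fw.pair {g : G} (a : Fw L K t) (h1 : Commute (g * t * g⁻¹) t) (h2 : g * t * g⁻¹ ≠ t) :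
    Pair L K (cj g L) (cj g K) t (g * t * g⁻¹) :=
  ⟨a, a.toHalf.conj g, h1, a.tight g fun e => h2 (mul_inv_eq_iff_eq_mul.2 e)⟩

end CfsgLib.HNS
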