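import Cfsg.Agent.Lib.HNR.Tau
import Cfsg.Agent.Lib.HNS.Pair
import Cfsg.Agent.Lib.ONRec.Tools

/-! Standard subgroup `2.HS`: further facts about `PH` (tests and generated data) -/

set_option autoImplicit false
set_option maxRecDepth 100000
set_option Elab.async false

namespace CfsgLib.HNS

open Subgroup CfsgLib.Comput CfsgLib.Amalg CfsgLib.HN CfsgLib.HNR QS FusA
open CfsgLib.StdInt (WG NG Two two_of_sq odd_of_pow conj_mem_NG)
open CfsgLib.FiTool (allI allI_zero bor bor_eq_true bnot bnot_eq_true invW ev_invW blt lt_of_blt)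
open CfsgLib.ONRec (impB impB_sound Sg evV)

noncomputable def evn (l : List ℕ) : Bool := Nat.beq (actL parS l 0) 0

theorem evn_iff {l : List ℕ} : evn l = true ↔ evL el l ∈ K := by
  refine ⟨mem_K_of_par, fun h => ?_⟩
  have := actL_rel (g := el) (step := parS) (St := fun x a => (x = 0 ∧ sgn a = 1) ∨ (x = 1 ∧ sgn a = -1))
    (fun m x a hx => by
      rw [map_mul, sgn_el, parS]
      cases tb 0x3c0808 m <;> rcases hx with ⟨rfl, h⟩ | ⟨rfl, h⟩ <;> simp [h]) l (x := 0) (a := 1)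
        (Or.inl ⟨rfl, map_one _⟩)
  rw [mul_one, show sgn (evL el l) = 1 from h] at this
  rw [evn, (this.resolve_right fun e => absurd e.2 (by decide)).1]
  rfl

theorem le254 {l : List ℕ} (h : allL (fun m => Nat.ble m 254) l = true) : evL el (l.map (· + 1)) = pr l :=
  evL_succ fun m hm => Nat.lt_succ_of_le (Nat.le_of_ble_eq_true (allL_sound h m hm))

theorem prK (l : List ℕ) (h : band (allL (fun m => Nat.ble m 254) l) (evn (l.map (· + 1))) = true := by
    decide +kernel) : pr l ∈ K := le254 (band_eq_true.1 h).1 ▸ evn_iff.1 (band_eq_true.1 h).2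

/-- `x` is the product of the words `ws` of odd order that commute with `m` -/
noncomputable def wgB (m x ws : List ℕ) : Bool :=
  band (band (allL (fun m => Nat.ble m 254) m) (allL (fun m => Nat.ble m 254) x))
    (band (allL (fun w => band (evn [w]) (band (ck (List.replicate 15 w, []))
      (ck (app (m.map (· + 1)) [w], w :: m.map (· + 1))))) ws) (ck (ws, x.map (· + 1))))

theorem wg (m x ws : List ℕ) (h : wgB m x ws = true := by decide +kernel) : pr x ∈ WG K (pr m) := by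
  obtain ⟨h1, h2⟩ := band_eq_true.1 h
  obtain ⟨h2, h3⟩ := band_eq_true.1 h2
  rw [← le254 (band_eq_true.1 h1).2, ← ckE h3, ← le254 (band_eq_true.1 h1).1]
  refine Subgroup.list_prod_mem _ fun y hy => ?_
  obtain ⟨w, hw, rfl⟩ := List.mem_map.1 hy
  obtain ⟨a, b⟩ := band_eq_true.1 (allL_sound h2 w hw)
  obtain ⟨b, c⟩ := band_eq_true.1 b
  have b' := ckE b
  have c' := ckE c
  rw [evL_replicate, evL_nil] at b'
  rw [app_eq, evL_append, evL_one, evL_cons] at c'
  exact subset_closure ⟨evL_one el w ▸ evn_iff.1 a, odd_of_pow (by decide) b', c'⟩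

noncomputable abbrev iP : PH := pr [3, 4, 11]
noncomputable abbrev yP : PH := pr [11, 3]

theorem t_Wu : tP ∈ WG K uP := wg [2] [0] [0x1207, 0x61803, 0x171202]
theorem u_Wu : uP ∈ WG K uP := wg [2] [2] [6, 24, 0x71806]
theorem g1_Wu : el 16 ∈ WG K uP := wg [2] [16] [6, 0x711]
theorem g2_Wu : el 17 ∈ WG K uP := wg [2] [17] [6, 0x712]
theorem g3_Wu : el 18 * el 19 ∈ WG K uP := wg [2] [18, 19] [0x61a, 0x611, 0x6121b]
theorem g4_Wu : el 18 * el 20 ∈ WG K uP := wg [2] [18, 20] [23, 0x171217, 0x171217]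
theorem g5_Wu : el 18 * el 21 ∈ WG K uP := wg [2] [18, 21] [23, 0x71c12, 0x61918]
theorem i_Wu : iP ∈ WG K uP := wg [2] [3, 4, 11] [0x612, 0x61807, 0x171217, 0x171217]
theorem r1_Wu : pr [4, 7] ∈ WG K uP := wg [2] [4, 7] [24, 0x1917]
theorem r2_Wu : pr [6, 7, 4] ∈ WG K uP := wg [2] [6, 7, 4] [24, 0x7171b]
theorem u_Wc : uP ∈ WG K cP := wg [3] [2] [11, 0x50a05]
theorem a_Wc : aP ∈ WG K cP := wg [3] [16, 2] [7, 11, 0x50a05, 0x150615]
theorem u_Wd : uP ∈ WG K dP := wg [3, 2] [2] [0x140a14, 0x14050b14]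
theorem tv_Wd : tP * vP ∈ WG K dP := wg [3, 2] [0, 4] [0x80b0c160a, 0x306140a14]
theorem r1_Wy : pr [28, 17, 29] ∈ WG K yP := wg [11, 3] [28, 17, 29] [0x611, 0xf1e12]
theorem r2_Wy : pr [6, 28, 17, 29] ∈ WG K yP := wg [11, 3] [6, 28, 17, 29] [0x611, 0x71d1011]

theorem twoP (l : List ℕ) (h : pk (l ++ l ++ l ++ l) [] = true := by decide +kernel) : Two (pr l) :=
  ⟨2, by
    have := pke _ _ h
    rw [pr_append, pr_append, pr_append] at this
    rw [show 2 ^ 2 = 4 from rfl, pow_succ, pow_three']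
    exact this⟩

theorem W_z : WG K zP = WG K uP := by
  unfold WG
  congr 1
  ext w
  refine and_congr_right fun _ => and_congr_right fun _ => ?_
  rw [z_eq]
  exact ⟨fun h => by simpa using (Commute.inv_left (t_comm w).symm).mul_left h, (Commute.mul_left (t_comm w).symm ·)⟩

/-! ### conjugation inside `K` -/

theorem conjK {r o a : PH} (ho : o ∉ K) (h : o * r = r * o) (e : IsConj r a) : ∃ k ∈ K, k * r * k⁻¹ = a := by
  obtain ⟨k, rfl⟩ := isConj_iff.1 e
  by_cases hk : k ∈ K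
  · exact ⟨k, hk, rfl⟩
  · exact ⟨k * o, (mul_mem_iff_of_index_two index_K).2 (iff_of_false hk ho), by
      rw [mul_assoc k, h]; group⟩

theorem cz : cP * zP = zP * cP := pke [3, 1] [1, 3]
theorem cd : cP * dP = dP * cP := pke [3, 3, 2] [3, 2, 3]

theorem inv_K {a : PH} (ha : a ∈ K) (h : a * a = 1) (h1 : a ≠ 1) (h2 : a ≠ tP) :
    ∃ k ∈ K, k * uP * k⁻¹ = a ∨ k * zP * k⁻¹ = a := by
  rcases cls h h1 with (e | e | e) | e | e
  · exact absurd (t_conj e) h2
  · exact (conjK c_K cu e).imp fun _ e => ⟨e.1, .inl e.2⟩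
  · exact absurd ((K_conj e).2 ha) c_K
  · exact (conjK c_K cz e).imp fun _ e => ⟨e.1, .inr e.2⟩
  · exact absurd ((K_conj e).2 ha) d_K

theorem inv_out {a : PH} (ha : a ∉ K) (h : a * a = 1 ∨ a * a = tP) :
    ∃ k ∈ K, k * cP * k⁻¹ = a ∨ k * dP * k⁻¹ = a := by
  rcases cls (h.resolve_right (nsq ha)) (fun e => ha (e ▸ one_mem K)) with (e | e | e) | e | e
  · exact absurd ((K_conj e).1 t_K) ha
  · exact absurd ((K_conj e).1 u_K) ha
  · exact (conjK c_K rfl e).imp fun _ e => ⟨e.1, .inl e.2⟩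
  · exact absurd ((K_conj e).1 z_K) ha
  · exact (conjK c_K cd e).imp fun _ e => ⟨e.1, .inr e.2⟩

def witS : List (ℕ × ℕ × ℕ) := [(81, 0, 0x1117), (121, 0, 0x1f0e2218), (124, 0, 0xa170d), (125, 0, 0x17111705),
  (178, 0, 0x191d180d), (202, 0, 0x121d180d), (204, 0, 0x11170b17), (229, 0, 0x110f09), (286, 0, 0x1f0a211209),
  (333, 0, 0x120509), (356, 0, 0x110a170d), (358, 0, 0x61f122209), (426, 0, 0x1f122209), (430, 0, 0x1122092005),
  (465, 0, 23), (466, 0, 0xb192005), (468, 0, 0x170b17), (469, 0, 0x509), (470, 0, 0x22092005), (505, 0, 0x191117),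
  (593, 0, 0xa17120b18), (633, 0, 0x18120f09), (636, 0, 0xb1f0b0d), (637, 0, 0xb200d1b), (690, 0, 0x1d180d),
  (714, 0, 0x19121d180d), (716, 0, 0x50d1f0d09), (741, 0, 0x21210e0709), (798, 0, 0x12211a0a), (845, 0, 0x201206220a),
  (868, 0, 0x2012022209), (870, 0, 0x200d0d2205), (938, 0, 0x22111b0d17), (942, 0, 0xb1f0d220e),
  (977, 0, 0x1f0e21180d), (978, 0, 0x221b111f), (980, 0, 0x18121b0b17), (981, 0, 0x2121110e1f), (982, 0, 0xe2111210b),
  (1017, 0, 0x210e0b2205), (1105, 0, 0x210e171f05), (1145, 0, 0x18120509), (1148, 0, 0x1f18120e09),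
  (1149, 0, 0x221712200e), (1202, 0, 0xe111f0905), (1226, 0, 0x17121f1b05), (1228, 0, 0x220d1a2205),
  (1253, 0, 0x211f121b05), (1310, 0, 0x2121090d), (1357, 0, 0x22121b0d09), (1380, 0, 0xf0d1f0d09),
  (1382, 0, 0x180d11090d), (1450, 0, 0x1b1f122209), (1454, 0, 0x1b11211a0a), (1489, 0, 0x210e1c210e),
  (1490, 0, 0x11191d180d), (1492, 0, 0x18121f1b0a), (1493, 0, 0xd22111f05), (1494, 0, 0x22221121),
  (1529, 0, 0x1d1c0e2105), (1617, 0, 0x111705), (1657, 0, 0x210e0b22), (1660, 0, 0x17110b17), (1661, 0, 0x171117),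
  (1714, 0, 0x1822112105), (1738, 0, 0x711211a0a), (1740, 0, 0x120a170d), (1765, 0, 0x110509), (1822, 0, 0x2207170d),
  (1869, 0, 0x120f09), (1892, 0, 0x12170b17), (1894, 0, 0x180d200e09), (1962, 0, 0xf1f1120), (1966, 0, 0x11211a0a),
  (2001, 0, 0x1705), (2002, 0, 0x171f1b05), (2004, 0, 0x1d17110d), (2005, 0, 0xf09), (2006, 0, 0x211a0a),
  (2041, 0, 0x91117)]

theorem c_S : pcAll bs (fun idx l x => Bool.rec true (anyL (witB bs x0 [(0x0c04, 0x3ffffffff)] idx l) witS)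
    (tst bs x0 x l [1])) gsT 0 [] x0 = true := by decide +kernel

theorem sq_t {a : PH} (h : a * a = tP) : ∃ k ∈ K, k * yP * k⁻¹ = a := by
  obtain ⟨l, -, h1⟩ := syl (p := 2) (k := 11) (m := 2) le_top card_TP (by norm_num) (mem_top a)
    (by rw [show 2 ^ 2 = 2 * 2 from rfl, pow_mul, pow_two a, h, pow_two, t_sq])
  obtain ⟨_, w, x, a0, a1, a2⟩ := pcAll_forall mE.step mE.one c_S (mem_NF ck_holds c_T h1)
  rw [(mE.tst_iff a1 w [1]).2 (by rw [a0, conj_mul, h, t_comm, mul_inv_cancel_right, evL_one, ev1])] at a2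
  obtain ⟨s, -, a3⟩ := anyL_sound a2
  obtain ⟨r, hr, c, -, a4⟩ := witB_sound mE a3
  obtain rfl := List.mem_singleton.1 hr
  have e : ev el 0x0c04 = yP := congrArg (· * el 3) (one_mul (el 11))
  rw [a0, e] at a4
  refine conjK (o := pr [13, 32, 30, 12] * cP) (fun e => c_K ((mul_mem_cancel_left (prK _)).1 e))
    ((pr_append [13, 32, 30, 12, 3] [11, 3]).symm.trans ((pke _ _).trans (pr_append [11, 3] [13, 32, 30, 12, 3])))
    ((isConj_iff.2 ⟨_, a4⟩).trans (isConj_iff.2 ⟨l, rfl⟩).symm)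

theorem noy {m : PH} (h1 : Commute m (pr [28, 17, 29])) (h2 : Commute m (pr [6, 28, 17, 29])) :
    m * m ≠ yP ∧ m * m ≠ yP * tP := by
  have h3 : m * ρP = ρP * m := by
    have := h1.mul_right h2
    rwa [← pr_append, pke _ [5]] at this
  have h4 : m * m * cP = cP * (m * m) := by
    rw [← mul_inv_eq_iff_eq_mul, show m * m * cP * (m * m)⁻¹ = m * (m * cP * m⁻¹) * m⁻¹ by group]
    rcases Cρ_c h3 with e | e
    · rw [e, e]
    · rw [e, ← conj_mul, e, t_comm m, mul_inv_cancel_right, mul_assoc, t_sq, mul_one]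
  have h5 : yP * cP ≠ cP * yP := fun e => absurd (e.trans (mul_assoc _ _ _).symm) (pkn [11, 3, 3] [3, 11, 3])
  refine ⟨fun e => h5 (e ▸ h4), fun e => h5 ?_⟩
  rw [e, mul_assoc, ← t_comm, ← mul_assoc, ← mul_assoc] at h4
  exact mul_right_cancel h4

/-! ### the centraliser of `u` -/

theorem PP_t : tP ∈ PP := inP 0 (by decide)

theorem i_comm {a : PH} (ha : a ∈ WG K uP) : Commute a iP := by
  let J : Subgroup PH :=
    { carrier := {a | a ∈ PP ∧ ∃ x ∈ PP, (∀ b ∈ PP, b * x = x * b) ∧ x * x = 1 ∧ a * iP * a⁻¹ = iP * x}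
      one_mem' := ⟨one_mem _, 1, one_mem _, by simp, by simp, by simp⟩
      mul_mem' := by
        rintro a b ⟨ha, x, x0, x1, x2, x3⟩ ⟨hb, y, y0, y1, y2, y3⟩
        refine ⟨mul_mem ha hb, x * y, mul_mem x0 y0, fun c hc => Commute.mul_right (x1 c hc) (y1 c hc), ?_, ?_⟩
        · rw [mul_assoc, ← mul_assoc y, x1 y y0, mul_assoc, y2, mul_one, x2]
        · rw [show a * b * iP * (a * b)⁻¹ = a * (b * iP * b⁻¹) * a⁻¹ by group, y3, ← conj_mul, x3, y1 a ha,
            mul_inv_cancel_right, mul_assoc]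
      inv_mem' := by
        rintro a ⟨ha, x, x0, x1, x2, x3⟩
        refine ⟨inv_mem ha, x, x0, x1, x2, ?_⟩
        have : a * (iP * x) * a⁻¹ = iP := by
          rw [← conj_mul, x3, x1 a ha, mul_inv_cancel_right, mul_assoc, x2, mul_one]
        nth_rewrite 1 [← this]; group }
  have k : ∀ m x, (band (Nat.ble m 254) (band (inA 0xfffc9ff (m + 1)) (band (inA 7 x) (band (ck ([x, x], []))
      (ck ([m + 1, 0x4050c], [0x4050c, x, m + 1]))))) = true) → ev el (m + 1) ∈ J := fun m x h => by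
    obtain ⟨-, h⟩ := band_eq_true.1 h
    obtain ⟨h1, h⟩ := band_eq_true.1 h
    obtain ⟨h2, h⟩ := band_eq_true.1 h
    obtain ⟨h3, h4⟩ := band_eq_true.1 h
    have e : ev el 0x4050c = iP := congrArg (· * el 4 * el 11) (one_mul (el 3))
    have h5 : InA el 7 (PP ⊓ centralizer PP) := fun j hj => by
      have : j < 3 := Nat.lt_of_not_le fun e => by
        rw [Nat.testBit_lt_two_pow (lt_of_lt_of_le (by norm_num) (Nat.pow_le_pow_right two_pos e))] at hj
        exact absurd hj (by simp)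
      interval_cases j
      exacts [⟨PP_t, fun b _ => t_comm b⟩, ⟨inP 1 (by decide), fun b hb => PP_z hb⟩,
        ⟨inP 2 (by decide), fun b hb => mem_PP.1 hb⟩]
    have h6 := ckE h3
    have h7 := ckE h4
    rw [evL_two, evL_nil] at h6
    rw [evL_two, evL_three, e] at h7
    exact ⟨ev_mem inP h1, _, (ev_mem h5 h2).1, (ev_mem h5 h2).2, h6, by rw [h7]; group⟩
  have hJ : ∀ a ∈ PP, a ∈ J := fun a ha => mem_of_NF (by
    simp only [gsR, gsQ, List.cons_append, List.nil_append, List.forall_mem_cons]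
    exact ⟨k 1 0 (by decide +kernel), k 0 0 (by decide +kernel), k 16 0 (by decide +kernel), k 17 0 (by decide +kernel),
      k 18 2 (by decide +kernel), k 19 2 (by decide +kernel), k 20 2 (by decide +kernel), k 21 2 (by decide +kernel),
      k 24 0 (by decide +kernel), k 26 0 (by decide +kernel), k 5 0 (by decide +kernel), k 7 3 (by decide +kernel),
      k 22 0 (by decide +kernel), by simp⟩) (mem_P ha)
  refine mem_centralizer_singleton_iff.1 ((closure_le (centralizer {iP})).2 (fun w hw => ?_) ha)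
  obtain ⟨h0, x, -, x1, x2, x3⟩ := hJ w (mem_PP.2 hw.2.2.symm)
  obtain ⟨n, hn⟩ := hw.2.1
  have h1 : w * w ∈ centralizer {iP} := mem_centralizer_singleton_iff.2 (by
    rw [← mul_inv_eq_iff_eq_mul, show w * w * iP * (w * w)⁻¹ = w * (w * iP * w⁻¹) * w⁻¹ by group, x3, ← conj_mul, x3,
      x1 w h0, mul_inv_cancel_right, mul_assoc, x2, mul_one])
  have h2 := pow_mem h1 (n + 1)
  rwa [← pow_two, ← pow_mul, show 2 * (n + 1) = orderOf w + 1 by omega, pow_succ, pow_orderOf_eq_one, one_mul] at h2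

/-- the products of conjugates -/
noncomputable def cjL (m : ℕ) (l : List ℕ) : List ℕ := List.rec [] (fun w _ ih => w :: m :: invW (ivN ivl) w :: ih) l

theorem ng {N : Subgroup PH} (hN : ∀ a ∈ K, a ∈ PP → ∀ x ∈ N, a * x * a⁻¹ ∈ N) (m : ℕ) (hm : ev el m ∈ N) (ws : List ℕ)
    (h : band (allL (fun w => band (evn [w]) (inA 0xfffc9ff w)) ws) (ck (cjL m ws, [1])) = true := by decide +kernel) :
    tP ∈ N := by
  obtain ⟨h1, h2⟩ := band_eq_true.1 h
  rw [tP, ← ev1, ← evL_one, ← ckE h2]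
  have h3 := allL_sound h1
  clear h h1 h2
  induction ws with
  | nil => exact one_mem N
  | cons w l ih =>
    change evL el (w :: m :: invW (ivN ivl) w :: cjL m l) ∈ N
    obtain ⟨a, b⟩ := band_eq_true.1 (h3 w List.mem_cons_self)
    rw [evL_cons, evL_cons, evL_cons, ev_invW ivD, ← mul_assoc, ← mul_assoc]
    exact mul_mem (hN _ (evL_one el w ▸ evn_iff.1 a) (ev_mem inP b) _ hm) (ih fun w hw => h3 w (List.mem_cons_of_mem _ hw))

theorem t_normal {N : Subgroup PH} (hN : ∀ a ∈ K, a ∈ PP → ∀ x ∈ N, a * x * a⁻¹ ∈ N) {w : PH} (hw : w ∈ N) (hK : w ∈ K)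
    (hP : w ∈ PP) (ho : Odd (orderOf w)) (h1 : w ≠ 1) : tP ∈ N := by
  have c : Nat.card (K ⊓ PP : Subgroup PH) ∣ 30720 := card_PP ▸ card_dvd_of_le inf_le_right
  have key : ∀ (p m : ℕ) [Fact p.Prime], ¬ p ^ 2 ∣ 30720 → el m ∈ K ⊓ PP → orderOf (el m) = p → p ∣ orderOf w →
      el m ∈ N := fun p m _ h2 h3 h4 h5 => by
    have h6 := orderOf_pow_orderOf_div (orderOf_pos w).ne' h5
    obtain ⟨l, hl, e⟩ := exists_conj_mem (p := p) (k := 1) (e := 1) (zpowers_le_of_mem h3)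
      (by rw [Nat.card_zpowers, h4, pow_one]) (fun e => h2 (e.trans c)) (pow_mem (mem_inf.2 ⟨hK, hP⟩) (orderOf w / p))
      (by simpa [h6] using pow_orderOf_eq_one (w ^ (orderOf w / p)))
    have h7 := hN l hl.1 hl.2 _ (pow_mem hw (orderOf w / p))
    have h8 : zpowers (l * w ^ (orderOf w / p) * l⁻¹) = zpowers (el m) := eq_of_le_of_card_ge (zpowers_le_of_mem e) (by
      rw [Nat.card_zpowers, Nat.card_zpowers, h4, show l * w ^ (orderOf w / p) * l⁻¹ =
        MulAut.conj l (w ^ (orderOf w / p)) from rfl, MulEquiv.orderOf_eq, h6])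
    exact (h8.ge.trans (zpowers_le_of_mem h7)) (mem_zpowers _)
  have h2 : orderOf w ∣ 15 := (Nat.Coprime.pow_right 11 ho.coprime_two_right).dvd_of_dvd_mul_left
    (show orderOf w ∣ 2 ^ 11 * 15 from (card_PP ▸ PP.orderOf_dvd_natCard hP :))
  have := Fact.mk Nat.prime_five
  by_cases h3 : 3 ∣ orderOf w
  · exact ng hN 6 (ev6 ▸ key 3 5 (by norm_num) ⟨el_K 5, inP 5 (by decide)⟩ (orderOf_eq_prime (powk 5 3) ρ_ne) h3)
      [23, 24, 0x1217, 0x1218]
  · refine ng hN 23 (evk 22 ▸ key 5 22 (by norm_num) ⟨el_K 22, inP 22 (by decide)⟩ (orderOf_eq_prime f5 (pkn [22] [])) ?_)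
      [0, 0x711, 0x709, 0x1106]
    have h4 : orderOf w ≠ 1 := fun e => h1 (orderOf_eq_one_iff.1 e)
    have h5 := Nat.le_of_dvd (by norm_num) h2
    generalize orderOf w = n at *
    interval_cases n <;> omega

theorem c_w1 : impB bs x0 gsQ [] ([(true, [0], [])] :: [17, 18, 0x1314, 0x1315, 0x1316].map fun y =>
    [(false, [0, y], [y, 0]), (false, [0, y], [y, 2, 0])]) = true := by decide +kernel
theorem c_w2 : impB bs x0 gsR ([17, 18, 0x1314, 0x1315, 0x1316].map fun y => (true, [0, y], [y, 0]))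
    [[(true, [0], [])], [(true, [0], [1])], [(true, [0], [3])], [(true, [0], [2])],
      [(true, [0, 0], [2]), (false, [0, 5], [5, 0])]] = true := by decide +kernel

theorem ev2d (a b : ℕ) (ha : a < 255 := by norm_num) (hb : b < 255 := by norm_num) :
    ev el (256 * (a + 1) + b + 1) = el a * el b := by rw [ONRec.ev_snoc el _ hb, evk a ha, evk b hb]

theorem cenW {a : PH} (h0 : Commute a uP) (h1 : Commute a (el 16)) (h2 : Commute a (el 17))
    (h3 : Commute a (el 18 * el 19)) (h4 : Commute a (el 18 * el 20)) (h5 : Commute a (el 18 * el 21)) :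
    a = 1 ∨ a = tP ∨ a = uP ∨ a = zP ∨ a * a = zP ∧ ¬ Commute a vP := by
  have hy : ∀ y ∈ [17, 18, 0x1314, 0x1315, 0x1316], y ≠ 0 ∧ ev el y ∈ RC ∧ Commute a (ev el y) := by
    simp only [List.forall_mem_cons]
    exact ⟨⟨by decide, ev_mem inR (by decide +kernel), evk 16 ▸ h1⟩, ⟨by decide, ev_mem inR (by decide +kernel), evk 17 ▸ h2⟩,
      ⟨by decide, ev_mem inR (by decide +kernel), (ev2d 18 19).symm ▸ h3⟩,
      ⟨by decide, ev_mem inR (by decide +kernel), (ev2d 18 20).symm ▸ h4⟩,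
      ⟨by decide, ev_mem inR (by decide +kernel), (ev2d 18 21).symm ▸ h5⟩, by simp⟩
  obtain ⟨q, hq, s, hs, rfl⟩ := dec_P (mem_PP.2 h0)
  have hP : q ∈ PP := le_PP _ (by decide +kernel) (Q_cl hq)
  obtain ⟨c, hc, e⟩ := impB_sound mE c_w1 hq (by simp)
  obtain rfl : q = 1 := by
    rcases List.mem_cons.1 hc with rfl | hc
    · simpa [Sg, evV] using e
    obtain ⟨y, h, rfl⟩ := List.mem_map.1 hc
    obtain ⟨y0, y1, y2⟩ := hy y h
    simp only [List.forall_mem_cons, Sg, evV, List.map, if_true, if_neg y0, List.prod_cons, List.prod_nil, mul_one,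
      OfNat.ofNat_ne_zero, if_false, ev2, Bool.false_eq_true, iff_false] at e
    have e1 := R_fix hP hs y1
    rw [y2.eq, mul_inv_cancel_right] at e1
    rcases e1 with d | d
    · exact absurd (by rw [← mul_inv_eq_iff_eq_mul, ← d]) e.1
    · exact absurd (by rw [← mul_assoc, ← mul_inv_eq_iff_eq_mul, ← mul_inv_eq_iff_eq_mul.2 d, invk 1 1]) e.2.1
  rw [one_mul] at hy ⊢
  obtain ⟨c, hc, e⟩ := impB_sound mE c_w2 (mem_NF ck_holds c_R hs) (fun t ht => by
    obtain ⟨y, h, rfl⟩ := List.mem_map.1 ht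
    simpa [Sg, evV, (hy y h).1] using (hy y h).2.2.eq)
  simp only [List.mem_cons, List.not_mem_nil, or_false] at hc
  rcases hc with rfl | rfl | rfl | rfl | rfl <;>
    simp only [List.forall_mem_cons, Sg, evV, List.map, if_true, List.prod_cons, List.prod_nil, mul_one, one_ne_zero,
      OfNat.ofNat_ne_zero, if_false, ev1, ev2, ev3, ev5, Bool.false_eq_true, iff_false, iff_true] at e
  exacts [.inl e.1, .inr (.inl e.1), .inr (.inr (.inl e.1)), .inr (.inr (.inr (.inl e.1))),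
    .inr (.inr (.inr (.inr ⟨e.1, e.2.1⟩)))]

theorem c_6 : pcAll bs (fun _ l x => Bool.rec true (anyL (fun w => tst bs x0 x [] [w]) [0, 1, 3, 5, 0x305, 0x103, 0x105,
    0x10305]) (band (tst bs x0 x l []) (band (evn l) (tst bs x0 x [3] (app l [3]))))) gsC 0 [] x0 = true := by
  decide +kernel

theorem inv_X {a : PH} (ha : a ∈ K) (h : a * a = 1) (h1 : a * uP = uP * a) (h2 : a * ρP = ρP * a) :
    a = 1 ∨ a = tP ∨ a = uP ∨ a = vP ∨ a = uP * vP ∨ IsConj zP a := by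
  obtain ⟨k, hk, e, he, s, hs, h5⟩ := dec_C (mem_CP.2 h2)
  obtain ⟨_, l, x, a0, a1, a2⟩ := pcAll_forall mE.step mE.one c_6 (a := a) (mem_NF_append.2
    ⟨_, ⟨_, ⟨1, rfl, k, hk, rfl⟩, e, he, rfl⟩, s, hs, by rw [one_mul, evk 12, evk 9, ← h5]⟩)
  rw [(mE.tst_iff a1 l []).2 (by rw [a0, h, evL_nil]), evn_iff.2 (a0 ▸ ha), (mE.tst_iff a1 [3] (app l [3])).2 (by
    rw [app_eq, evL_append, evL_one, ev3, a0, h1])] at a2
  obtain ⟨w, hw, a3⟩ := anyL_sound a2
  rw [mE.tst_iff a1, evL_nil, one_mul, evL_one] at a3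
  simp only [List.mem_cons, List.not_mem_nil, or_false] at hw
  rcases hw with rfl | rfl | rfl | rfl | rfl | rfl | rfl | rfl <;> rw [a3]
  · exact .inl rfl
  · exact .inr (.inl ev1)
  · exact .inr (.inr (.inl ev3))
  · exact .inr (.inr (.inr (.inl ev5)))
  · exact .inr (.inr (.inr (.inr (.inl (ev2d 2 4)))))
  · exact .inr (.inr (.inr (.inr (.inr ((ev2d 0 2).symm ▸ z_tu)))))
  · exact .inr (.inr (.inr (.inr (.inr ((ev2d 0 4).symm ▸ z_tu.trans (t_mul u_v))))))
  · refine .inr (.inr (.inr (.inr (.inr ?_))))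
    rw [show ev el 0x10305 = tP * (uP * vP) by
      rw [show 0x10305 = 256 * (256 * (0 + 1) + 2 + 1) + 4 + 1 from rfl, ONRec.ev_snoc el _ (by norm_num), ev2d 0 2, evk 4,
        mul_assoc]]
    exact z_tu.trans (t_mul (u_v.trans v_uv))

/-! ### the action on `R` twisted by `δ` -/

noncomputable def dW (w : List ℕ) : List ℕ := Bool.rec (app w [1]) w (evn w)

theorem evL_dW (w : List ℕ) : evL el (dW w) = δ (evL el w) := by
  rw [dW]
  cases h : evn w
  · rw [δ_out fun e => by simp [evn_iff.2 e] at h]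
    change evL el (app w [1]) = _
    rw [app_eq, evL_append, evL_one, ev1]
  · exact (δ_mem (evn_iff.1 h)).symm

def actD : List (ℕ × ℕ) := [(1, 8), (1, 70), (1, 70), (1, 70), (1, 70), (1, 8), (1, 46), (1, 30), (1, 46), (1, 46),
  (1, 8), (0, 16), (1, 32), (1, 92), (1, 90), (1, 8), (1, 46), (1, 46), (1, 84), (1, 112), (1, 8), (1, 20), (1, 22),
  (1, 10), (0, 64), (1, 8), (1, 40), (1, 14), (1, 10), (1, 44), (0, 16), (0, 68), (0, 8), (0, 64), (0, 32), (1, 46),
  (1, 16), (1, 74), (1, 46), (1, 14), (1, 112), (1, 16), (1, 90), (0, 18), (1, 20), (1, 36), (1, 44), (1, 38), (1, 46),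
  (1, 46), (1, 68), (1, 12), (1, 20), (0, 18), (1, 92), (1, 98), (1, 30), (1, 12), (1, 64), (1, 112), (0, 32), (1, 90),
  (1, 12), (1, 64), (1, 22), (1, 32), (1, 12), (1, 84), (1, 46), (1, 46), (1, 68), (1, 66), (0, 8), (1, 22), (1, 16),
  (1, 52), (1, 46), (1, 82), (1, 42), (1, 28), (1, 18), (0, 34), (1, 10), (1, 90), (1, 66), (1, 98), (1, 46), (1, 32),
  (1, 46), (1, 46), (0, 64), (1, 88), (1, 66), (1, 20), (1, 32), (1, 46), (1, 46), (1, 38), (1, 40), (1, 16), (1, 18),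
  (1, 22), (1, 92), (1, 88), (0, 16), (1, 52), (1, 82), (1, 28), (1, 46), (1, 42), (1, 112), (1, 92), (0, 8), (1, 66),
  (1, 64), (1, 18), (1, 46), (1, 10), (1, 46), (1, 74)]

/-- `eR a` and `t * eR a` belong to the class of `t` together with their products by `z` -/
noncomputable def tB (a : ℕ) : Bool :=
  band (band (blt (a + 1) 128) (ck (1 :: bitsL a, bitsL (a + 1)))) (band (tb Gam a) (tb Gam (a + 1)))

theorem c_D2 : pcAll bs (fun idx l _ => (fun s : ℕ × ℕ => band (bor (Nat.beq s.1 1) (band (Nat.beq s.1 0) (tB s.2)))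
    (bor (ck (app l (dW (bitsL s.2)), app (bitsL s.2) (s.1 :: l)))
      (ck (app l (dW (bitsL s.2)), app (bitsL s.2) (s.1 :: 2 :: l))))) (nth (0, 0) actD idx)) gsQ 0 [] x0 = true := by
  decide +kernel

/-- the shadow of `TT` -/
def TTP (l : PH) : Prop := l ∈ RP ∧ DD l ∧ DD (l * zP)

theorem eR_mem (a : ℕ) : eR rE a ∈ RP := Subgroup.list_prod_mem _ fun y hy => by
  obtain ⟨i, hi, rfl⟩ := List.mem_map.1 hy
  split_ifs
  exacts [subset_closure (.inr ⟨i, List.mem_range.1 hi, rfl⟩), one_mem _]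

theorem tB_sound {a : ℕ} (h : tB a = true) : TTP (eR rE a) ∧ TTP (tP * eR rE a) := by
  obtain ⟨h1, h2⟩ := band_eq_true.1 h
  obtain ⟨h1, h3⟩ := band_eq_true.1 h1
  obtain ⟨h2, h4⟩ := band_eq_true.1 h2
  have h5 := ckE h3
  have h6 := lt_of_blt h1
  rw [evL_cons, ev1, evL_bitsL, evL_bitsL] at h5
  exact ⟨⟨eR_mem a, (rE_mem a (by omega)).1 (tb_eq _ _ ▸ h2)⟩, h5 ▸ ⟨eR_mem _, (rE_mem _ h6).1 (tb_eq _ _ ▸ h4)⟩⟩

theorem δ_R {y : PH} (hy : y ∈ RC) : δ y ∈ RC := by
  by_cases h : y ∈ K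
  · rwa [δ_mem h]
  · rw [δ_out h]; exact mul_mem hy (mcl 0)

theorem act2 {q : PH} (hu : q * uP = uP * q) {ε : PH →* PH} (hε : ε = MonoidHom.id _ ∨ ε = δ) :
    (∃ l, TTP l ∧ TTP (tP * l) ∧ (q * ε l * q⁻¹ = l ∨ q * ε l * q⁻¹ = l * zP)) ∨
    (∃ y ∈ RP, q * ε y * q⁻¹ = y * tP ∨ q * ε y * q⁻¹ = y * tP * zP) ∨
    ∃ y ∈ RP, q * q * y * (q * q)⁻¹ ≠ y ∧ q * q * y * (q * q)⁻¹ ≠ y * zP := by
  rcases hε with rfl | rfl
  · refine (act_P hu).imp_left fun h => ⟨_, (tB_sound (a := 8) (by decide +kernel)).1,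
      (tB_sound (a := 8) (by decide +kernel)).2, ?_⟩
    simpa using R_fix (one_mem _) (RP_eq ▸ h) (RP_eq ▸ eR_mem 8)
  obtain ⟨q, hq, s, hs, rfl⟩ := dec_P (mem_PP.2 hu)
  have hP : q ∈ PP := le_PP _ (by decide +kernel) (Q_cl hq)
  obtain ⟨i, l, x, rfl, -, a2⟩ := pcAll_forall mE.step mE.one c_D2 hq
  generalize nth (0, 0) actD i = w at a2
  obtain ⟨k, a⟩ := w
  obtain ⟨b1, b2⟩ := band_eq_true.1 a2
  have zz : ∀ a, a * zP * zP = a := fun a => by rw [mul_assoc, z_sq', mul_one]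
  have key : evL el l * s * δ (eR rE a) * (evL el l * s)⁻¹ = eR rE a * ev el k ∨
      evL el l * s * δ (eR rE a) * (evL el l * s)⁻¹ = eR rE a * ev el k * zP := by
    simp only [bor_eq_true, mE.chk_iff, Eqn.Holds, app_eq, evL_append, evL_cons, evL_dW, evL_bitsL, ev2,
      ← mul_assoc] at b2
    have := R_fix hP hs (δ_R (RP_eq ▸ eR_mem a))
    rcases b2 with b | b
    · rwa [b, mul_inv_cancel_right] at this
    · rw [b, mul_inv_cancel_right, zz] at this
      exact this.symm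
  rcases bor_eq_true.1 b1 with b | b
  · obtain rfl : k = 1 := Nat.eq_of_beq_eq_true b
    rw [ev1] at key
    exact .inr (.inl ⟨_, eR_mem a, key⟩)
  · obtain rfl : k = 0 := Nat.eq_of_beq_eq_true (band_eq_true.1 b).1
    rw [ev_zero, mul_one] at key
    exact .inl ⟨_, (tB_sound (band_eq_true.1 b).2).1, (tB_sound (band_eq_true.1 b).2).2, key⟩

end CfsgLib.HNS
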