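import Cfsg.Agent.Lib.HNS.Amb

/-! Standard subgroup `2.HS`: the conjugates of the central involution `t` that commute with `t` -/

set_option autoImplicit false
set_option linter.unusedSectionVars false

namespace CfsgLib.HNS

open Subgroup Cfsg CfsgLib.HN CfsgLib.HNR FusA Conn
open CfsgLib.StdInt hiding Pair Fus comm_conj

variable {G : Type*} [Group G] {f : PH → G} {L : Subgroup G} {m r : PH} {g s x : G}

theorem cjc (g : G) {a b : G} (h : IsConj a b) : IsConj a (g * b * g⁻¹) := h.trans (isConj_iff.2 ⟨g, rfl⟩)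

theorem cj_cancel (g a : G) : g⁻¹ * (g * a * g⁻¹) * g = a := by group
theorem cj_cancel' (g a : G) : g * (g⁻¹ * a * g) * g⁻¹ = a := by group

theorem inv_ne' {t : G} (h : g * t * g⁻¹ ≠ t) : g⁻¹ * t * g ≠ t := by
  have := inv_ne h
  rwa [inv_inv] at this

namespace Em

variable [Finite G] (E : Em f L)
include E

theorem tr2 (h1 : Commute (g * f tP * g⁻¹) (f tP)) (h2 : g * f tP * g⁻¹ ≠ f tP) (h : x ∈ WG L (g * f tP * g⁻¹))
    (h3 : Two x) : g⁻¹ * x * g ∈ WG L (g⁻¹ * f tP * g) := mem_WG_cj ((E.fw.pair h1 h2).two_mem h h3)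

theorem swap0 (h1 : Ac f m (g * f tP * g⁻¹)) (hm : m ∈ K) (h2 : g * f tP * g⁻¹ ≠ f tP) (h3 : m * m = 1) :
    g⁻¹ * f tP * g ∈ L := by
  have p := mt (E.memC h1).2 (E.fw.pair h1.ct h2).sK
  exact (WG_le (E.tr2 h1.ct h2 (E.wg h1 (t_W hm h3 (fun e => p (.inl e)) fun e => p (.inr e))) (two_of_sq E.tt))).1

theorem sqD (h : IsConj (f tP) s) : s * s = 1 := by
  obtain ⟨g, rfl⟩ := isConj_iff.1 h
  rw [conj_mul, E.tt]; simp

theorem neD (h : IsConj (f tP) s) : s ≠ 1 := fun e => E.t1 (isConj_one_left.1 (e ▸ h))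

theorem swap (h : g * f tP * g⁻¹ ∈ L) : g⁻¹ * f tP * g ∈ L := by
  by_cases h2 : g * f tP * g⁻¹ = f tP
  · nth_rewrite 1 [← h2]
    rw [cj_cancel]; exact E.mL t_K
  obtain ⟨a, ha, e⟩ := E.mem.1 h
  exact E.swap0 (e ▸ E.ac ha) ha h2 ((E.sq ha).1 (e ▸ E.sqD (cjc g (.refl _))))

theorem swap' (h : g⁻¹ * f tP * g ∈ L) : g * f tP * g⁻¹ ∈ L := by
  simpa using E.swap (g := g⁻¹) (by simpa using h)

/-- a conjugate of `t` that induces an inner automorphism lies in `L` -/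
theorem inner (hs : IsConj (f tP) s) (h1 : Ac f m s) (hm : m ∈ K) : s ∈ L := by
  obtain ⟨g, rfl⟩ := isConj_iff.1 hs
  by_cases h2 : g * f tP * g⁻¹ = f tP
  · rw [h2]; exact E.mL t_K
  refine E.swap' ((E.ac_sq h1 (E.sqD hs)).elim (E.swap0 h1 hm h2) fun h3 => ?_)
  have p := E.fw.pair (inv_comm h1.ct) (inv_ne h2)
  have k1 : (f m)⁻¹ * (g * f tP * g⁻¹) ∈ centralizer (L : Set G) :=
    (E.memC ((E.ac hm).inv.mul h1)).2 (.inl (inv_mul_cancel m))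
  have k2 : Commute (g * f tP * g⁻¹) (f m) := (E.comm h1 hm).2 (Commute.refl m)
  have k3 : Commute ((f m)⁻¹ * (g * f tP * g⁻¹)) (g * f tP * g⁻¹) := k2.symm.inv_left.mul_left (Commute.refl _)
  have k4 : (f m)⁻¹ * (g * f tP * g⁻¹) * ((f m)⁻¹ * (g * f tP * g⁻¹)) = f tP := by
    rw [k2.inv_right.mul_mul_mul_comm, E.sqD hs, mul_one, ← mul_inv_rev, ← E.mul hm hm, h3,
      inv_eq_of_mul_eq_one_right E.tt]
  generalize (f m)⁻¹ * (g * f tP * g⁻¹) = κ at k1 k3 k4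
  have k5 := StdInt.comm_conj.1 k3
  obtain ⟨n, hn⟩ := E.act' k5
  have k6 : Ac f (n * n) (g⁻¹ * f tP * g⁻¹⁻¹) := by
    rw [← k4]; simpa [mul_assoc] using hn.mul hn
  have k7 : n * n ∈ K := Kmul.2 Iff.rfl
  rcases E.ac_sq k6 p.b.sq with e | e
  · simpa using E.swap (g := g) (by simpa using E.swap0 k6 k7 (inv_ne h2) e)
  obtain ⟨k, hk, e'⟩ := sq_t e
  have k8 : ∀ x ∈ WG K yP, Two x → Commute (k⁻¹ * n * k) x := fun x hx h => by
    have a1 := WG_cj k hx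
    rw [e'] at a1
    exact StdInt.comm_conj.1 ((E.comm hn (WG_le a1).1).1 (p.two_comm (E.wg k6 a1) (E.two (WG_le a1).1 (two_conj k h))
      (mem_cj.2 (by simpa [mul_assoc] using k1)) k5))
  exact absurd (by rw [show k⁻¹ * n * k * (k⁻¹ * n * k) = k⁻¹ * (n * n) * k by group, ← e', cj_cancel])
    (noy (k8 _ r1_Wy (twoP _)) (k8 _ r2_Wy (twoP _))).1

theorem repL (h : x ∈ L) (h1 : IsConj (f tP) x) (h2 : x ≠ f tP) :
    ∃ k ∈ K, f k * f uP * (f k)⁻¹ = x ∨ f k * f zP * (f k)⁻¹ = x := by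
  obtain ⟨a, ha, rfl⟩ := E.mem.1 h
  obtain ⟨k, hk, e⟩ := inv_K ha ((E.sq ha).1 (E.sqD h1)) (fun e => E.neD h1 (by rw [e, E.one])) fun e =>
    h2 (congrArg f e)
  exact ⟨k, hk, e.imp (fun e => by rw [← e, E.cj' hk u_K]) fun e => by rw [← e, E.cj' hk z_K]⟩

theorem nz : ¬ IsConj (f tP) (f zP) := fun h => by
  have zt : f zP ≠ f tP := fun e => z_ne_t (E.inj z_K t_K e)
  obtain ⟨g, r, hr, hW, h1, h2⟩ : ∃ g r, r ∈ K ∧ WG K r = WG K uP ∧ g * f tP * g⁻¹ = f zP ∧ g⁻¹ * f tP * g = f r := by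
    obtain ⟨g, hg⟩ := isConj_iff.1 h
    obtain ⟨k, hk, e⟩ := E.repL (E.swap (hg ▸ E.mL z_K)) (isConj_conj' (.refl _) g) (inv_ne' (hg ▸ zt))
    have e1 : g * f k * f tP * (g * f k)⁻¹ = f zP := by rw [← hg, mul_assoc g, (E.ac hk).ct.eq]; group
    have e2 : ∀ {y}, f k * y * (f k)⁻¹ = g⁻¹ * f tP * g → (g * f k)⁻¹ * f tP * (g * f k) = y := fun e => by
      rw [mul_inv_rev, mul_assoc, ← mul_assoc (f tP), mul_assoc, ← mul_assoc g⁻¹, ← mul_assoc g⁻¹, ← e]; group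
    exact e.elim (fun e => ⟨_, _, u_K, rfl, e1, e2 e⟩) fun e => ⟨_, _, z_K, W_z, e1, e2 e⟩
  have c1 : Commute (g * f tP * g⁻¹) (f tP) := h1 ▸ (E.ac z_K).ct
  have c2 : g * f tP * g⁻¹ ≠ f tP := h1 ▸ zt
  have iK := (WG_le i_Wu).1
  obtain ⟨a, ha, e⟩ := E.wg' (E.ac hr) (h2 ▸ E.tr2 c1 c2 (h1 ▸ E.wg (E.ac z_K) (W_z ▸ i_Wu)) (E.two iK (twoP _)))
  have aK := (WG_le ha).1
  have a2 : a * a = tP := E.inj (mul_mem aK aK) t_K (by
    rw [E.mul aK aK, e, show g⁻¹ * f iP * g * (g⁻¹ * f iP * g) = g⁻¹ * (f iP * f iP) * g by group, ← E.mul iK iK,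
      show iP * iP = zP from (pr_append [3, 4, 11] [3, 4, 11]).symm.trans (pke _ [1]), ← h1, cj_cancel])
  have a3 := cenW' (a := a) fun x hx => by
    have b1 := E.tr2 (inv_comm c1) (inv_ne c2) (x := f x) (by
      rw [inv_inv, h2]; exact E.wg (E.ac hr) (hW ▸ (gens_W x hx).1)) (E.two (gens_K hx) (gens_W x hx).2.1)
    rw [inv_inv, h1] at b1
    obtain ⟨b, hb, e'⟩ := E.wg' (E.ac z_K) b1
    have b2 := (E.comm (E.ac (WG_le hb).1) iK).2 (i_comm (W_z ▸ hb))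
    rw [← E.comm (E.ac aK) (gens_K hx), e]
    exact StdInt.comm_conj.1 (e' ▸ b2.symm)
  rcases a3 with rfl | rfl | rfl | rfl | e
  exacts [t_ne (a2.symm.trans (one_mul 1)), t_ne (a2.symm.trans t_sq), t_ne (a2.symm.trans u_sq),
    t_ne (a2.symm.trans z_sq'), z_ne_t (e.1.symm.trans a2)]

theorem repU (h : x ∈ L) (h1 : IsConj (f tP) x) (h2 : x ≠ f tP) : ∃ k ∈ K, f k * f uP * (f k)⁻¹ = x :=
  (E.repL h h1 h2).imp fun _ e => ⟨e.1, e.2.resolve_right fun e' => E.nz (h1.trans (e' ▸ (cjc _ (.refl _)).symm))⟩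

theorem prodL (h : x ∈ L) (h1 : IsConj (f tP) x) (h2 : x ≠ f tP) : ¬ IsConj (f tP) (f tP * x) := fun h3 => by
  obtain ⟨k, hk, rfl⟩ := E.repU h h1 h2
  refine E.nz (h3.trans (IsConj.symm (isConj_iff.2 ⟨f k, ?_⟩)))
  rw [z_eq, E.mul t_K u_K, ← conj_mul, (E.ac hk).ct.eq, mul_inv_cancel_right]

/-- an outer conjugate acts as `c` or as `d` -/
theorem repO (hs : IsConj (f tP) s) (h1 : Ac f m s) (hm : m ∉ K) :
    ∃ l ∈ L, Ac f cP (l * s * l⁻¹) ∨ Ac f dP (l * s * l⁻¹) := by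
  obtain ⟨k, hk, e⟩ := inv_out hm (E.ac_sq h1 (E.sqD hs))
  refine ⟨_, inv_mem (E.mL hk), ?_⟩
  rcases e with rfl | rfl
  exacts [.inl (E.conj_ac h1 hk), .inr (E.conj_ac h1 hk)]

theorem out_ne (h1 : Ac f r s) (hr : r ∉ K) {a : PH} (ha : a ∈ K) : s ≠ f a := fun e =>
  hr ((mul_mem_cancel_left (inv_mem ha)).1 (((E.memC ((E.ac ha).inv.mul h1)).1 (by simp [e])).elim
    (fun e => e ▸ one_mem K) fun e => e ▸ t_K))

theorem cu [IsSimpleGroup G] (hG : ¬IsMulCommutative G) : IsConj (f tP) (f uP) := by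
  have key : ∀ x ∈ L, IsConj (f tP) x → x ≠ f tP → IsConj (f tP) (f uP) := fun x h h1 h2 => by
    obtain ⟨k, -, rfl⟩ := E.repU h h1 h2
    exact h1.trans (cjc _ (.refl _)).symm
  obtain ⟨g, h1, h2⟩ := E.fw.toHalf.simple hG
  obtain ⟨m, hm⟩ := E.act' h1
  by_cases hK : m ∈ K
  · exact key _ (E.inner (cjc g (.refl _)) hm hK) (cjc g (.refl _)) h2
  have k2 : ∀ g r x, r ∉ K → (∃ o ∉ K, o * r = r * o) → x ∈ WG K r → Two x → x ≠ 1 → IsConj r (x * r) →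
      Ac f r (g * f tP * g⁻¹) → IsConj (f tP) (f uP) := fun g r x hr ⟨o, ho, ho'⟩ hx x2 x1 hc h => by
    obtain ⟨k, hk, e⟩ := conjK ho ho' hc
    have xK := (WG_le hx).1
    have e1 : f k * (g * f tP * g⁻¹) * (f k)⁻¹ = f x * (g * f tP * g⁻¹) := by
      rw [show x = k * (r * k⁻¹ * r⁻¹) by rw [← mul_assoc, ← mul_assoc, e, mul_inv_cancel_right],
        E.mul hk (Kcj r (inv_mem hk)), ← h _ (inv_mem hk), E.inv hk]
      group
    refine key (g⁻¹ * f x * g * f tP) (mul_mem (WG_le (E.tr2 h.ct (E.out_ne h hr t_K) (E.wg h hx) (E.two xK x2))).1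
      (E.mL t_K)) (isConj_iff.2 ⟨g⁻¹ * f k * g, ?_⟩) fun e => x1 (E.eq1 xK (by
        rw [← cj_cancel' g (f x), mul_eq_right.1 e]; simp))
    calc _ = g⁻¹ * (f k * (g * f tP * g⁻¹) * (f k)⁻¹) * g := by group
      _ = _ := by rw [e1]; group
  obtain ⟨l, -, e | e⟩ := E.repO (cjc g (.refl _)) hm hK
  · exact k2 (l * g) _ _ c_K ⟨_, c_K, rfl⟩ a_Wc (two_of_sq a_sq) (fun e => z_ne (isConj_one_left.1 (e ▸ z_a)))
      (HNR.ac ▸ c_ca) (by simpa [mul_assoc] using e)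
  · exact k2 (l * g) _ _ d_K ⟨_, c_K, cd⟩ tv_Wd (twoP [0, 4]) (pkn [0, 4] [])
      ((d_td.trans (t_mul (d_cv.trans cv_cuv))).trans (by
        rw [show tP * (cP * (uP * vP)) = tP * vP * dP by
          simp only [← mul_assoc]; exact pke [0, 3, 2, 4] [0, 4, 3, 2]])) (by simpa [mul_assoc] using e)

theorem exists_g (hA : IsConj (f tP) (f uP)) :
    ∃ g, g * f tP * g⁻¹ = f uP ∧ g * f uP * g⁻¹ = f tP ∧ g * f ρP * g⁻¹ = f ρP := by
  have ut : f uP ≠ f tP := fun e => u_ne_t (E.inj u_K t_K e)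
  obtain ⟨g, h1, h2⟩ : ∃ g, g * f tP * g⁻¹ = f uP ∧ g * f uP * g⁻¹ = f tP := by
    obtain ⟨g, hg⟩ := isConj_iff.1 hA
    obtain ⟨k, hk, e⟩ := E.repU (E.swap (hg ▸ E.mL u_K)) (isConj_conj' (.refl _) g) (inv_ne' (hg ▸ ut))
    refine ⟨g * f k, by rw [← hg, mul_assoc g, (E.ac hk).ct.eq]; group, ?_⟩
    rw [show g * f k * f uP * (g * f k)⁻¹ = g * (f k * f uP * (f k)⁻¹) * g⁻¹ by group, e, cj_cancel']
  have k : ∀ x ∈ WG K uP, Two x → g⁻¹ * f x * g ∈ L := fun x hx x2 =>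
    (WG_le (E.tr2 (h1 ▸ (E.ac u_K).ct) (h1 ▸ ut) (h1 ▸ E.wg (E.ac u_K) hx) (E.two (WG_le hx).1 x2))).1
  obtain ⟨b, hb, e⟩ := E.mem.1 (mul_mem (k _ r1_Wu (twoP _)) (k _ r2_Wu (twoP _)))
  rw [show ∀ x y : G, g⁻¹ * x * g * (g⁻¹ * y * g) = g⁻¹ * (x * y) * g by intros; group,
    ← E.mul (WG_le r1_Wu).1 (WG_le r2_Wu).1, ← pr_append, pke _ [5]] at e
  replace e : f b = g⁻¹ * f ρP * g := e
  have o : orderOf b = orderOf ρP := by
    rw [← E.ord hb, ← E.ord ρ_K, e]; simpa using (MulAut.conj g⁻¹).orderOf_eq (f ρP)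
  rw [orderOf_eq_prime (powk 5 3) ρ_ne] at o
  obtain ⟨n, hn, e'⟩ := ord3_P (b := b) (mem_PP.2 ((E.comm (E.ac hb) u_K).1
    (e ▸ StdInt.comm_conj.1 (h2 ▸ (E.ac ρ_K).ct)))) (o ▸ pow_orderOf_eq_one b) (by rintro rfl; simp at o)
  obtain ⟨n, nK, hn, rfl⟩ : ∃ n ∈ K, n ∈ PP ∧ n * ρP * n⁻¹ = b := by
    by_cases h : n ∈ K
    · exact ⟨n, h, hn, e'⟩
    · exact ⟨n * cP, Kmul.2 (iff_of_false h c_K), mul_mem hn (mem_PP.2 HNR.cu), by
        rw [← e', mul_assoc n, ← ρc]; group⟩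
  rw [E.cj' nK ρ_K] at e
  have a : ∀ y, g * f n * y * (g * f n)⁻¹ = g * (f n * y * (f n)⁻¹) * g⁻¹ := fun y => by group
  refine ⟨g * f n, ?_, ?_, ?_⟩ <;> rw [a]
  · rw [(E.ac nK).ct.eq, mul_inv_cancel_right, h1]
  · rw [((E.comm (E.ac nK) u_K).2 (mem_PP.1 hn)).eq, mul_inv_cancel_right, h2]
  · rw [e, cj_cancel']

section
variable (h1 : g * f tP * g⁻¹ = f uP) (h2 : g * f uP * g⁻¹ = f tP)
include h1 h2

theorem cjC {κ : G} (hκ : κ ∈ centralizer (L : Set G)) :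
    Commute (g * κ * g⁻¹) (f tP) ∧ ∀ x ∈ gens, Commute (g * κ * g⁻¹) (f x) := by
  have p := E.fw.pair (h1 ▸ (E.ac u_K).ct) (h1 ▸ fun e => u_ne_t (E.inj u_K t_K e))
  have c : Commute (g * κ * g⁻¹) (f tP) := h2 ▸ (mem_cent.1 hκ _ (E.mL u_K)).symm.conj g
  exact ⟨c, fun x hx => p.two_comm (h1 ▸ E.wg (E.ac u_K) (gens_W x hx).1) (E.two (gens_K hx) (gens_W x hx).2.1)
    ⟨κ, hκ, rfl⟩ c⟩

theorem invC {κ : G} (hκ : κ ∈ centralizer (L : Set G)) (h : κ * κ = 1) : κ = 1 ∨ κ = f tP := by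
  have p := E.fw.pair (h1 ▸ (E.ac u_K).ct) (h1 ▸ fun e => u_ne_t (E.inj u_K t_K e))
  obtain ⟨m, hm⟩ := E.act' (E.cjC h1 h2 hκ).1
  have s : ∀ {y : G}, y * y = 1 → g * y * g⁻¹ * (g * y * g⁻¹) = 1 := fun e => by rw [conj_mul, e]; simp
  refine (E.fix0 hm (s h) (E.cjC h1 h2 hκ).2).imp (fun e => ?_) fun e => ?_
  · exact conj_eq_one_iff.1 (eq_one_of_odd_sq (p.od _ e ⟨κ, hκ, rfl⟩) (s h))
  · rw [← h1, conj_mul] at e
    have := conj_eq_one_iff.1 (eq_one_of_odd_sq (p.od _ e ⟨_, mul_mem hκ E.tC, rfl⟩) (s (by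
      rw [(E.acC hκ).ct.symm.mul_mul_mul_comm, h, E.tt, mul_one])))
    rwa [← E.tt, mul_left_inj] at this

theorem no4 {κ : G} (hκ : κ ∈ centralizer (L : Set G))
    (hD : ∀ x, IsConj (f tP) x → Commute x (f tP) → Commute κ x) : κ * κ ≠ f tP := fun h => by
  obtain ⟨m, hm⟩ := E.act' (E.cjC h1 h2 hκ).1
  have a := hm.mul hm
  rw [conj_mul, h, h1] at a
  have b : m * m ≠ 1 := fun e => ((E.memC (E.ac u_K)).1 ((E.memC a).2 (.inl e))).elim u_ne u_ne_t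
  rcases cenW' fun x hx => (E.comm hm (gens_K hx)).1 ((E.cjC h1 h2 hκ).2 x hx) with rfl | rfl | rfl | rfl | e
  exacts [b (one_mul 1), b t_sq, b u_sq, b z_sq', e.2 ((E.comm hm v_K).1 (by
    have := (hD (g⁻¹ * f vP * g) (isConj_conj' ((h1 ▸ cjc g (.refl _) : IsConj (f tP) (f uP)).trans
      (E.hom.map_isConj (a := ⟨_, u_K⟩) (b := ⟨_, v_K⟩) (isConj_iff.2 ⟨⟨rP, el_K 10⟩, Subtype.ext
        (mul_inv_eq_iff_eq_mul.2 ru)⟩))) g)
      (StdInt.comm_conj.1 (h1 ▸ (E.comm (E.ac v_K) u_K).2 uv.symm))).conj g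
    rwa [cj_cancel'] at this))]

theorem cv : IsConj (f tP) (f vP) ∧ IsConj (f tP) (f uP * f vP) := by
  have a : IsConj (f tP) (f vP) := (h1 ▸ cjc g (.refl _) : IsConj (f tP) (f uP)).trans
    (isConj_iff.2 ⟨f rP, by rw [← E.cj' (el_K 10) u_K, ru, mul_inv_cancel_right]⟩)
  exact ⟨a, a.trans (isConj_iff.2 ⟨f rP, by rw [← E.cj' (el_K 10) v_K, rv, mul_inv_cancel_right, E.mul u_K v_K]⟩)⟩

theorem s_out : ∃ m ∉ K, Ac f m (g * f vP * g⁻¹) := by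
  obtain ⟨m, hm⟩ := E.act' (h := g * f vP * g⁻¹) (h2 ▸ ((E.comm (E.ac v_K) u_K).2 uv.symm).conj g)
  have a := cjc g (E.cv h1 h2).1
  refine ⟨m, fun hK => E.prodL (E.inner a hm hK) a (fun e => ?_) ?_, hm⟩
  · rw [← h2] at e
    exact u_ne_v (E.inj u_K v_K (by simpa using e.symm))
  · nth_rewrite 2 [← h2]
    rw [conj_mul]; exact cjc g (E.cv h1 h2).2

variable (h3 : g * f ρP * g⁻¹ = f ρP)
include h3

theorem out_eq (hs : IsConj (f tP) s) (h : Ac f cP s ∨ Ac f dP s) :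
    s = g * f vP * g⁻¹ ∨ s = f tP * (g * f vP * g⁻¹) := by
  obtain ⟨r, hr, h, hu, hρ⟩ : ∃ r ∉ K, Ac f r s ∧ uP ∈ WG K r ∧ Commute r ρP := h.elim
    (fun h => ⟨_, c_K, h, u_Wc, ρc.symm⟩) fun h => ⟨_, d_K, h, u_Wd, Commute.mul_left ρc.symm ρu.symm⟩
  obtain ⟨k, rfl⟩ := isConj_iff.1 hs
  have a1 := (WG_le (E.tr2 h.ct (E.out_ne h hr t_K) (E.wg h hu) (E.two u_K (two_of_sq u_sq)))).1
  obtain ⟨x, hx, e⟩ := E.mem.1 (E.swap (g := k⁻¹ * g) (by rw [← h1] at a1; simpa [mul_assoc] using a1))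
  have e1 : k * f tP * k⁻¹ = g * f x * g⁻¹ := by rw [e]; group
  rw [e1] at hs h ⊢
  have hx' : IsConj (f tP) (f x) := hs.trans (cjc g (.refl _)).symm
  rcases inv_X hx ((E.sq hx).1 (E.sqD hx')) ((E.comm (E.ac hx) u_K).1 ((Commute.conj_iff g).1 (h2.symm ▸ h.ct)))
    ((E.comm (E.ac hx) ρ_K).1 ((Commute.conj_iff g).1 (h3.symm ▸ (E.comm h ρ_K).2 hρ)))
    with rfl | rfl | rfl | rfl | rfl | e
  · exact absurd E.one (E.neD hx')
  · exact absurd h1 (E.out_ne h hr u_K)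
  · exact absurd h2 (E.out_ne h hr t_K)
  · exact .inl rfl
  · exact .inr (by rw [E.mul u_K v_K, ← conj_mul, h2])
  · obtain ⟨n, hn, rfl⟩ := conjK c_K cz e
    exact absurd (hx'.trans (E.cj' hn z_K ▸ (cjc _ (.refl _)).symm)) E.nz

theorem s_ac : Ac f cP (g * f vP * g⁻¹) ∨ Ac f dP (g * f vP * g⁻¹) := by
  obtain ⟨m, hm, h⟩ := E.s_out h1 h2
  obtain ⟨l, -, e⟩ := E.repO (cjc g (E.cv h1 h2).1) h hm
  rcases E.out_eq h1 h2 h3 (cjc l (cjc g (E.cv h1 h2).1)) e with e' | e' <;> rw [e'] at e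
  · exact e
  · exact e.imp (fun e => by simpa using (E.acC (inv_mem E.tC)).mul e) fun e => by
      simpa using (E.acC (inv_mem E.tC)).mul e

end

end Em

end CfsgLib.HNS
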