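import Cfsg.Agent.Lib.HNR.X28
import Cfsg.Agent.Lib.ONRec.Tools

/-! Standard subgroup `2.HS`: the lemma `HNR.x28` with a normal subgroup `Y` of `C(t)` in place of `C(t)` -/

set_option autoImplicit false

namespace CfsgLib.HNS

open Subgroup CfsgLib.Tech CfsgLib.Flav
open CfsgLib.HNR (gg xr dl cond_xor dvd_ncard_conj)

/-- The abstract form of the hypotheses of `x28`. -/
structure XH {X : Type*} [Group X] (t c e r : X) (W Y : Subgroup X) : Prop where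
  card : Nat.card W = 16
  sq : ∀ w ∈ W, w * w = 1
  tW : t ∈ W
  cW : c ∈ W
  t1 : t ≠ 1
  ten : {s | s ∈ W ∧ IsConj t s}.ncard = 10
  gen : W ≤ closure {s | s ∈ W ∧ IsConj t s}
  free : ∀ u ∈ W, ∀ v ∈ W, u ≠ 1 → v ≠ 1 → u ≠ v → IsConj t u ∨ IsConj t v ∨ IsConj t (u * v)
  e2 : e * e = 1
  et : e * t = t * e
  ec : e * c * e⁻¹ = c * t
  eW : e ∈ 𝒩(W)
  ne : ∀ w ∈ W, (e * w) * (e * w) = 1 → ¬ IsConj t (e * w)
  syl : ¬ 64 ∣ Nat.card Y
  YC : Y ≤ centralizer {t}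
  nY : ∀ k ∈ centralizer {t}, ∀ y ∈ Y, k * y * k⁻¹ ∈ Y
  DY : ∀ s, IsConj t s → s ∈ centralizer {t} → s ∈ Y
  eY : e ∈ Y
  ext : ∀ y ∈ centralizer {t}, y ∉ Y → y * y ∈ W → ∃ a ∈ Y, ∃ κ, y = a * κ ∧ κ * κ = t ∧
    (∀ x ∈ Y, κ * x * κ⁻¹ = x ∨ κ * x * κ⁻¹ = x * t) ∧ κ * c * κ⁻¹ = c * t ∧ κ * e * κ⁻¹ = e * t
  nc : ∀ k, k * t = t * k → k * c * k⁻¹ = c ∨ k * c * k⁻¹ = c * t
  r3 : r ^ 3 = 1
  rt : r * t = t * r
  rW : r ∈ 𝒩(W)
  rfix : ∀ s ∈ W, IsConj t s → r * s * r⁻¹ = s → s = t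
  rK : r ∈ normalClosure (W : Set X)

namespace XH

variable {X : Type*} [Group X] {t c e r : X} {W Y : Subgroup X} (h : XH t c e r W Y)
include h

theorem comm {u v : X} (hu : u ∈ W) (hv : v ∈ W) : Commute u v := by
  have h1 := h.sq _ (mul_mem hu hv)
  rw [← eq_inv_iff_mul_eq_one, mul_inv_rev, inv_eq_of_mul_eq_one_right (h.sq u hu),
    inv_eq_of_mul_eq_one_right (h.sq v hv)] at h1
  exact h1

theorem two : IsPGroup 2 W := isPGroup_iff_mem.2 fun x hx => ⟨1, by rw [pow_one, pow_two, h.sq x hx]⟩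

theorem sqD {s : X} (hs : IsConj t s) : s * s = 1 := by
  obtain ⟨g, rfl⟩ := isConj_iff.1 hs
  rw [conj_mul, h.sq t h.tW]; simp

theorem le_C : W ≤ centralizer {t} := fun _ hw => mem_cent.2 (h.comm h.tW hw)

theorem le_Y : W ≤ Y := h.gen.trans ((closure_le _).2 fun s hs => h.DY s hs.2 (h.le_C hs.1))

theorem ec_ne : ¬ Commute e c := fun e' => h.t1 (by simpa [comm_conj_eq e'] using h.ec)

theorem eW' : e ∉ W := fun e' => h.ec_ne (h.comm e' h.cW)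

theorem nc' {k y : X} (hk : k ∈ centralizer {t}) (hy : y ∈ centralizer {t}) (e' : Commute (k * y * k⁻¹) c) :
    Commute y c := by
  have h1 : Commute y (k⁻¹ * c * k⁻¹⁻¹) := by simpa [mul_assoc] using e'.conj k⁻¹
  rcases h.nc k⁻¹ (mem_cent.1 (inv_mem hk)).symm with h2 | h2 <;> rw [h2] at h1
  · exact h1
  · simpa using h1.mul_right (mem_cent.1 hy).symm.inv_right

variable [Finite X]

omit [Finite X] in
theorem two_sup {x : X} (hx : x ∈ 𝒩(W)) (h2 : x * x ∈ W) : IsPGroup 2 ↥(W ⊔ zpowers x) :=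
  IsPGroup.to_sup_of_normal_left' h.two (isPGroup_zpowers_of_pow (k := 2) (by
    rw [← h.sq _ h2, ← pow_two (x * x), ← pow_two x, ← pow_mul]; rfl)) (zp_le hx)

theorem sylow {x : X} (hx : x ∈ 𝒩(W)) (h2 : x * x ∈ W) (h1 : x ∉ W) (ht : x ∈ Y) :
    IsSylowIn 2 (W ⊔ zpowers x) Y := by
  have h3 := h.two_sup hx h2
  have h4 : W ⊔ zpowers x ≤ Y := sup_le h.le_Y (zp_le ht)
  obtain ⟨S, hS⟩ := exists_isSylowIn 2 Y
  refine hS.of_card_le h3 h4 ?_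
  obtain ⟨k, hk⟩ := IsPGroup.iff_card.1 h3
  obtain ⟨m, hm⟩ := IsPGroup.iff_card.1 hS.pgroup
  have h5 := Core.card_lt_of_lt (lt_of_le_of_ne (le_sup_left (a := W) (b := zpowers x)) fun e' =>
    h1 (e'.ge (mem_sup_right (mem_zpowers x))))
  rw [h.card, hk, show 16 = 2 ^ 4 from rfl, Nat.pow_lt_pow_iff_right one_lt_two] at h5
  rw [hk, hm, Nat.pow_le_pow_iff_right one_lt_two]
  by_contra h6
  exact h.syl ((hm ▸ pow_dvd_pow 2 (show 6 ≤ m by omega) :).trans (card_dvd_of_le hS.le))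

theorem sylT : IsSylowIn 2 (W ⊔ zpowers e) Y := h.sylow h.eW (h.e2 ▸ W.one_mem) h.eW' h.eY

omit [Finite X] in
theorem memT {s : X} (hs : s ∈ W ⊔ zpowers e) (h1 : IsConj t s) : s ∈ W := by
  rw [sup_comm] at hs
  obtain ⟨_, ⟨k, rfl⟩, w, hw, rfl⟩ := (Core.mem_sup_of_le_normalizer_right (zp_le h.eW)).1 hs
  have h2 : e ^ (2 : ℤ) = 1 := by rw [zpow_two, h.e2]
  dsimp only at h1 ⊢
  rw [zpow_eq_zpow_emod k h2] at h1 ⊢
  rcases Int.emod_two_eq_zero_or_one k with e' | e' <;> rw [e'] at h1 ⊢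
  · simpa using hw
  · rw [zpow_one] at h1
    exact absurd h1 (h.ne w hw (h.sqD h1))

theorem norm_of {g : X} (hg : ∀ s ∈ W, IsConj t s → g * s * g⁻¹ ∈ W) : g ∈ 𝒩(W) :=
  mem_norm fun _ hx => (h.gen.trans ((closure_le (W.comap (MulAut.conj g).toMonoidHom)).2 fun s hs =>
    hg s hs.1 hs.2)) hx

theorem a1 {P : Subgroup X} {g : X} (hP : P ≤ centralizer {t}) (h2 : IsPGroup 2 P) (hg : cj g W ≤ P) :
    ∃ k ∈ centralizer {t}, k * g ∈ 𝒩(W) ∧ ∀ s ∈ P, IsConj t s → k * s * k⁻¹ ∈ W := by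
  obtain ⟨k, hk, h1⟩ := h.sylT.exists_cj_le (h2.to_inf_left (K := Y)) inf_le_right
  have h3 : ∀ s ∈ P, IsConj t s → k * s * k⁻¹ ∈ W := fun s hs h3 =>
    h.memT (h1 (conj_mem_cj.2 ⟨hs, h.DY s h3 (hP hs)⟩)) (h3.trans (isConj_iff.2 ⟨k, rfl⟩))
  refine ⟨k, h.YC hk, h.norm_of fun s hs h4 => ?_, h3⟩
  simpa [mul_assoc] using h3 _ (hg (conj_mem_cj.2 hs)) (h4.trans (isConj_iff.2 ⟨g, rfl⟩))

omit [Finite X] in
theorem cj_le {g : X} (hg : t ∈ cj g W) : cj g W ≤ centralizer {t} := fun x hx => mem_cent.2 (by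
  simpa [mul_assoc] using (h.comm (mem_cj.1 hg) (mem_cj.1 hx)).conj g)

theorem tr {s : X} (hs : s ∈ W) (h1 : IsConj t s) : ∃ n ∈ 𝒩(W), n * t * n⁻¹ = s := by
  obtain ⟨g, rfl⟩ := isConj_iff.1 h1
  obtain ⟨k, hk, h2, -⟩ := h.a1 (h.cj_le (g := g⁻¹) (mem_cj.2 (by simpa using hs))) (isPGroup_cj _ h.two) le_rfl
  refine ⟨_, inv_mem h2, ?_⟩
  conv_rhs => rw [← comm_conj_eq (mem_cent.1 (inv_mem hk)).symm]
  group

theorem fix {x : X} (hx : x ∈ 𝒩(W)) (h2 : x * x ∈ centralizer (W : Set X)) :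
    ∃ n ∈ 𝒩(W), n⁻¹ * x * n ∈ centralizer {t} := by
  have h1 := PD.card_le_sq_cent h.sq hx h2
  rw [h.card] at h1
  obtain ⟨s, hs, h3⟩ : ∃ s ∈ W ⊓ centralizer {x}, IsConj t s := by
    generalize hU : W ⊓ centralizer {x} = U at h1
    have hW : U ≤ W := hU ▸ inf_le_left
    have h3 : 2 < (U : Set X).ncard := by
      rw [← Nat.card_coe_set_eq, SetLike.coe_sort_coe]; nlinarith
    obtain ⟨u, v, hu, hv, huv⟩ := (Set.one_lt_ncard_iff (s := (U : Set X) \ {1})).1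
      (by rw [Set.ncard_sdiff_singleton_of_mem U.one_mem]; omega)
    rcases h.free u (hW hu.1) v (hW hv.1) hu.2 hv.2 huv with e' | e' | e'
    exacts [⟨u, hu.1, e'⟩, ⟨v, hv.1, e'⟩, ⟨_, U.mul_mem hu.1 hv.1, e'⟩]
  obtain ⟨n, hn, rfl⟩ := h.tr hs.1 h3
  exact ⟨n, hn, mem_cent.2 (by simpa [mul_assoc] using (mem_cent.1 hs.2).symm.conj n⁻¹)⟩

theorem memN {s : X} (hs : s ∈ 𝒩(W)) (h1 : IsConj t s) : s ∈ W := by
  obtain ⟨n, hn, h2⟩ := h.fix hs (h.sqD h1 ▸ one_mem _)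
  have h3 : IsConj t (n⁻¹ * s * n) := h1.trans (isConj_iff.2 ⟨n⁻¹, by simp⟩)
  obtain ⟨k, -, h4, h5⟩ := h.a1 (g := 1) (sup_le h.le_C (zp_le h2)) (h.two_sup (cj_mem' (norm_of_mem hn) hs)
    (h.sqD h3 ▸ one_mem _)) ((cj_one W).le.trans le_sup_left)
  have h6 := of_cj_mem (mul_one k ▸ h4) (h5 _ (mem_sup_right (mem_zpowers _)) h3)
  exact of_cj_mem (inv_mem hn) (by simpa using h6)

theorem le_N {S : Subgroup X} (hS : IsPGroup 2 S) (hW : W ≤ S) : S ≤ 𝒩(W) := by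
  by_contra h1
  obtain ⟨x, hx, h2, h3⟩ := exists_mem_normalizer_of_lt hS (Q := S ⊓ 𝒩(W))
    (lt_of_le_of_ne inf_le_left fun e' => h1 (e'.ge.trans inf_le_right))
  exact h2 ⟨hx, h.norm_of fun s hs h4 => h.memN (cj_mem h3 ⟨hW hs, norm_of_mem hs⟩).2
    (h4.trans (isConj_iff.2 ⟨x, rfl⟩))⟩

theorem sc1 {y g : X} (hy : y ∈ 𝒩(W)) (ht : y ∈ centralizer {t}) (hg : y ∈ cj g W) : y ∈ W := by
  by_contra hW
  have h0 : ∀ x ∈ cj g W, Commute y x := fun x hx => by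
    simpa [mul_assoc] using (h.comm (mem_cj.1 hg) (mem_cj.1 hx)).conj g
  have hy2 : y * y = 1 := by simpa [mul_assoc] using congrArg (fun x => g * x * g⁻¹) (h.sq _ (mem_cj.1 hg))
  obtain ⟨S, hS, h1⟩ := exists_isSylowIn_ge (isPGroup_cj g h.two) (H := centralizer {y}) fun x hx =>
    mem_cent.2 (h0 x hx)
  obtain ⟨k, hk, h2⟩ := hS.exists_conj_mem (mem_cent.2 (mem_cent.1 ht).symm) (isPGroup_zpowers_of_mem h.two h.tW)
  have h3 := h.memN (h.le_N (isPGroup_cj g⁻¹ hS.pgroup) ((cj_inv_cj g W).ge.trans (cj_mono _ h1))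
    (conj_mem_cj.2 h2)) (isConj_iff.2 ⟨g⁻¹ * k, by group⟩)
  obtain ⟨m, hm, h4, -⟩ := h.a1 (h.cj_le (g := k⁻¹ * g) (mem_cj.2 (by simpa [mul_assoc] using h3)))
    (isPGroup_cj _ h.two) le_rfl
  have h7 : m * y * m⁻¹ ∈ W := by
    have := cj_mem h4 (mem_cj.1 hg)
    rw [← comm_conj_eq (mem_cent.1 (inv_mem hk)).symm]
    simpa [mul_assoc] using this
  have h5 : Commute y c := h.nc' hm ht (h.comm h7 h.cW)
  obtain ⟨n, hn, h6⟩ := (h.sylow hy (hy2 ▸ one_mem _) hW (by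
    simpa [mul_assoc] using h.nY _ (inv_mem hm) _ (h.le_Y h7))).exists_cj_le h.sylT.pgroup h.sylT.le
  exact h.ec_ne (h.nc' (h.YC hn) (mem_cent.2 h.et.symm) (mem_cent.1 ((sup_le (fun w hw => mem_cent.2 (h.comm h.cW hw))
    (zp_le (mem_cent.2 h5.symm)) : _ ≤ centralizer {c}) (h6 (conj_mem_cj.2 (mem_sup_right (mem_zpowers e)))))).symm)

theorem sc {S : Subgroup X} (hS : IsPGroup 2 S) (hW : W ≤ S) : Cfsg.IsStronglyClosed W S := by
  refine ⟨hW, fun x hx g hg => ?_⟩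
  have h1 := h.le_N hS hW hg
  obtain ⟨n, hn, h2⟩ := h.fix h1 (by rw [conj_mul, h.sq x hx]; simp)
  exact of_cj_mem (inv_mem hn) (by
    simpa using h.sc1 (g := n⁻¹ * g) (cj_mem' (norm_of_mem hn) h1) h2 (mem_cj.2 (by simpa [mul_assoc] using hx)))

theorem eK : ∃ y ∈ normalClosure (W : Set X), y ∈ 𝒩(W) ∧ y * y = 1 ∧ y ∉ W := by
  set K := normalClosure (W : Set X)
  have hK : ∀ n : X, n ∈ 𝒩(W) → n ∈ 𝒩((K ⊓ 𝒩(W) : Subgroup X)) := fun n hn =>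
    norm_inf (le_normalizer_of_normal (mem_top n)) (norm_of_mem hn)
  have hW : W ≤ K ⊓ 𝒩(W) := le_inf le_normalClosure le_normalizer
  have hr : r ∈ K ⊓ 𝒩(W) := ⟨h.rK, h.rW⟩
  have h1 : (centralizer {t}).relIndex (K ⊓ 𝒩(W)) ∣ 10 := by
    rw [← h.ten]
    refine dvd_ncard_conj (L := K ⊓ 𝒩(W)) (fun g hg s hs => ⟨cj_mem hg.2 hs.1, hs.2.trans (isConj_iff.2 ⟨g, rfl⟩)⟩) fun s hs => ?_
    obtain ⟨n, hn, rfl⟩ := h.tr hs.1 hs.2
    rw [← relIndex_cj n, cj_centralizer_singleton, mem_normalizer_iff_cj.1 (hK n hn)]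
  have h2 := dvd_ncard_of_fpf (X := {y | ∃ k ∈ K ⊓ 𝒩(W), y = k * t * k⁻¹} \ {t}) (g := r) (n := 1) Nat.prime_three
    (by rw [pow_one, h.r3]) (by
      rintro _ ⟨⟨k, hk, rfl⟩, h2⟩
      refine ⟨⟨r * k, mul_mem hr hk, by group⟩, fun e' => h2 ?_⟩
      simpa using e'.trans (comm_conj_eq h.rt).symm) fun x ⟨⟨k, hk, e'⟩, h2⟩ h3 => h2 (h.rfix x (e' ▸ cj_mem hk.2 h.tW) (isConj_iff.2 ⟨k, e'.symm⟩) h3)
  rw [Set.ncard_sdiff_singleton_of_mem (by exact ⟨1, one_mem _, by simp⟩), Fgs.ncard_conj_by_subgroup] at h2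
  have h3 : (centralizer {t}).relIndex (K ⊓ 𝒩(W)) ≠ 1 := fun e' => by
    obtain ⟨s, hs, h3⟩ := Set.exists_ne_of_one_lt_ncard (s := {s | s ∈ W ∧ IsConj t s}) (by rw [h.ten]; norm_num) t
    obtain ⟨n, hn, rfl⟩ := h.tr hs.1 hs.2
    refine h3 (h.rfix _ hs.1 hs.2 (comm_conj_eq ?_))
    simpa [mul_assoc] using (mem_cent.1 (relIndex_eq_one.1 e' (cj_mem' (hK n hn) hr))).symm.conj n
  obtain ⟨R, h4, h5, h6, -⟩ := exists_lt_pgroup_normalizer h.two hW fun e' => e'.not_dvd (by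
    refine dvd_trans ?_ (relIndex_dvd_of_le_left _ h.le_C)
    have := Nat.le_of_dvd (by norm_num) h1
    generalize (centralizer {t}).relIndex (K ⊓ 𝒩(W)) = d at *
    interval_cases d <;> omega)
  obtain ⟨x, hx, h7⟩ := SetLike.exists_of_lt h5
  obtain ⟨y, hy, h8, h9⟩ := Bender.exists_sq_mem' h4 hx h7
  have h10 := h6 (zp_le hx hy)
  obtain ⟨n, hn, h11⟩ := h.fix h10.2 fun w hw => h.comm hw h9
  have h12 := cj_mem' (hK n hn) h10
  have h14 : n⁻¹ * y * n * (n⁻¹ * y * n) ∈ W := by simpa [mul_assoc] using cj_mem' hn h9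
  have h15 : n⁻¹ * y * n ∉ W := fun e' => h8 (of_cj_mem (inv_mem hn) (by simpa using e'))
  generalize n⁻¹ * y * n = y at h11 h12 h14 h15
  by_cases hY : y ∈ Y
  · obtain ⟨k, -, h13⟩ := (h.sylow h12.2 h14 h15 hY).exists_cj_le h.sylT.pgroup h.sylT.le
    exact ⟨e, of_cj_mem (le_normalizer_of_normal (mem_top k)) ((sup_le le_normalClosure (zp_le h12.1) : _ ≤ K)
      (h13 (conj_mem_cj.2 (mem_sup_right (mem_zpowers e))))), h.eW, h.e2, h.eW'⟩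
  obtain ⟨a, ha, κ, rfl, k1, k2, k3, k4⟩ := h.ext y h11 hY h14
  have tt := h.sq t h.tW
  have key : ∀ w ∈ W, ∀ b, b * b = 1 → κ * b * κ⁻¹ = b * t → w * a = b →
      ∃ y ∈ K, y ∈ 𝒩(W) ∧ y * y = 1 ∧ y ∉ W := fun w hw b b1 b2 b3 =>
    ⟨w * (a * κ), mul_mem (hW hw).1 h12.1, mul_mem (hW hw).2 h12.2, by
      rw [← mul_assoc w a, b3, show b * κ * (b * κ) = b * (κ * b * κ⁻¹) * (κ * κ) by group, b2, k1, ← mul_assoc b, b1,
        one_mul, tt], fun e' => h15 ((Subgroup.mul_mem_cancel_left W hw).1 e')⟩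
  by_cases haW : a ∈ W
  · exact key (c * a⁻¹) (mul_mem h.cW (inv_mem haW)) c (h.sq c h.cW) k3 (inv_mul_cancel_right c a)
  have aN : a ∈ 𝒩(W) := (Subgroup.mul_mem_cancel_right _ (mem_norm fun x hx => (k2 x (h.le_Y hx)).elim
    (fun e' => e'.symm ▸ hx) fun e' => e'.symm ▸ mul_mem hx h.tW)).1 h12.2
  have aa : a * a ∈ W := by
    rw [show a * κ * (a * κ) = a * (κ * a * κ⁻¹) * (κ * κ) by group, k1, Subgroup.mul_mem_cancel_right W h.tW] at h14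
    rcases k2 a ha with e' | e' <;> rw [e'] at h14
    · exact h14
    · rwa [← mul_assoc, Subgroup.mul_mem_cancel_right W h.tW] at h14
  obtain ⟨k, hk, h13⟩ := (h.sylow aN aa haW ha).exists_cj_le h.sylT.pgroup h.sylT.le
  have kt := (mem_cent.1 (h.YC hk)).symm
  refine key _ (((ONRec.Nrm.mk (fun x hx => cj_mem aN hx) aa).mem.1 (h13 (conj_mem_cj.2 (mem_sup_right
    (mem_zpowers e))))).resolve_left fun e' => h.ec_ne (h.nc' (h.YC hk) (h.YC h.eY) (h.comm e' h.cW))) (k * e * k⁻¹)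
    (by rw [conj_mul, h.e2]; simp) ?_ (inv_mul_cancel_right _ _)
  rw [show κ * (k * e * k⁻¹) * κ⁻¹ = κ * k * κ⁻¹ * (κ * e * κ⁻¹) * (κ * k * κ⁻¹)⁻¹ by group, k4]
  rcases k2 k hk with e' | e' <;> rw [e']
  · rw [← conj_mul, comm_conj_eq kt]
  · rw [show k * t * (e * t) * (k * t)⁻¹ = k * (t * e) * k⁻¹ by group, ← h.et, ← conj_mul, comm_conj_eq kt]

theorem false : False := by
  obtain ⟨S, hS⟩ := h.two.exists_le_sylow
  set K := normalClosure (W : Set X)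
  let π := QuotientGroup.mk' (Cfsg.pPrimeCore 2 K)
  obtain ⟨-, -, ⟨T, -, h1⟩, -⟩ := Cfsg.Agent.S2775.result S W (Core.isMulCommutative_iff_forall.2 fun _ hu _ hv =>
    h.comm hu hv) (h.sc S.isPGroup' hS) K rfl _ π (QuotientGroup.mk'_surjective _) (QuotientGroup.ker_mk' _)
  obtain ⟨e, eK, eW, e2, eW'⟩ := h.eK
  have h2 := h.two_sup eW (e2 ▸ W.one_mem)
  obtain ⟨q, -, h3⟩ := (IsSylowIn.of_sylow_top T).exists_cj_le
    ((h2.comap_subtype (K := K)).map π) le_top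
  have h4 : ∀ x : K, (x : X) ∈ W ⊔ zpowers e → (x : X) * x = 1 → q * π x * q⁻¹ ∈ (W.subgroupOf K).map π :=
    fun x hx h4 => h1.ge (mem_sup_right (subset_closure ⟨h3 (conj_mem_cj.2 (mem_map_of_mem π hx)), by
      rw [conj_pow, ← map_pow, pow_two, show x * x = 1 from Subtype.ext h4]; simp⟩))
  obtain ⟨w, hw, h5⟩ := of_cj_mem (g := q) (mem_norm (by
    rintro _ ⟨x, hx, rfl⟩
    exact h4 x (mem_sup_left hx) (h.sq _ hx))) (h4 ⟨e, eK⟩ (mem_sup_right (mem_zpowers e)) e2)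
  have h6 := (Core.isPGroup_inf_eq_bot_of_coprime (h2.comap_subtype (K := K))
    (Core.coprime_card_pPrimeCore 2 K)).le ⟨(W ⊔ zpowers e).mul_mem (inv_mem (mem_sup_left hw))
      (mem_sup_right (mem_zpowers e)), QuotientGroup.eq.1 h5⟩
  rw [mem_bot, inv_mul_eq_one] at h6
  exact eW' (mem_subgroupOf.1 (h6 ▸ hw :))

end XH

/-- `W = ⟨t, c, a, b⟩` is elementary abelian of order 16 and meets the class of `t` in
`t, v, c v, c t v` (`v ∈ {a, b, a b}`); `W ⟨e⟩` is a Sylow 2-subgroup of `Y`. -/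
theorem x28 {X : Type*} [Group X] [Finite X] (t c a b e r k₁ k₂ : X) (W Y : Subgroup X)
    (hW : W = closure {t, c, a, b}) (hcard : Nat.card W = 16) (hsq : ∀ w ∈ W, w * w = 1)
    (ha : IsConj t a) (hb : IsConj t b) (hab : IsConj t (a * b))
    (hca : IsConj t (c * a)) (hcb : IsConj t (c * b)) (hcab : IsConj t (c * (a * b)))
    (hcta : IsConj t (c * t * a)) (hctb : IsConj t (c * t * b)) (hctab : IsConj t (c * t * (a * b)))
    (hc : ¬ IsConj t c) (hct : ¬ IsConj t (c * t))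
    (hta : ¬ IsConj t (t * a)) (htb : ¬ IsConj t (t * b)) (htab : ¬ IsConj t (t * (a * b)))
    (he : e * e = 1) (het : e * t = t * e) (hec : e * c * e⁻¹ = c * t)
    (hea : e * a * e⁻¹ = a) (heb : e * b * e⁻¹ = a * b)
    (hne : ∀ w ∈ W, (e * w) * (e * w) = 1 → ¬ IsConj t (e * w))
    (hsyl : ¬ 64 ∣ Nat.card Y) (YC : Y ≤ centralizer {t}) (nY : ∀ k ∈ centralizer {t}, ∀ y ∈ Y, k * y * k⁻¹ ∈ Y)
    (DY : ∀ s, IsConj t s → s ∈ centralizer {t} → s ∈ Y) (eY : e ∈ Y)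
    (ext : ∀ y ∈ centralizer {t}, y ∉ Y → y * y ∈ W → ∃ a ∈ Y, ∃ κ, y = a * κ ∧ κ * κ = t ∧
      (∀ x ∈ Y, κ * x * κ⁻¹ = x ∨ κ * x * κ⁻¹ = x * t) ∧ κ * c * κ⁻¹ = c * t ∧ κ * e * κ⁻¹ = e * t)
    (hnc : ∀ k, k * t = t * k → k * c * k⁻¹ = c ∨ k * c * k⁻¹ = c * t)
    (hr : r ^ 3 = 1) (hrt : r * t = t * r) (hrc : r * c = c * r)
    (hra : r * a * r⁻¹ = b) (hrb : r * b * r⁻¹ = a * b)
    (hrk : r = k₁ * a * k₁⁻¹ * (k₂ * a * k₂⁻¹)) : False := by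
  have mt : t ∈ W := hW ▸ subset_closure (by simp)
  have mc : c ∈ W := hW ▸ subset_closure (by simp)
  have ma : a ∈ W := hW ▸ subset_closure (by simp)
  have mb : b ∈ W := hW ▸ subset_closure (by simp)
  have le : ∀ {Y : Subgroup X}, t ∈ Y → c ∈ Y → a ∈ Y → b ∈ Y → W ≤ Y := fun h1 h2 h3 h4 =>
    hW.le.trans ((closure_le _).2 (by simp [Set.insert_subset_iff, *]))
  have cm : ∀ {u v}, u ∈ W → v ∈ W → Commute u v := fun {u v} hu hv => by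
    have h1 := hsq _ (mul_mem hu hv)
    rw [← eq_inv_iff_mul_eq_one, mul_inv_rev, inv_eq_of_mul_eq_one_right (hsq u hu),
      inv_eq_of_mul_eq_one_right (hsq v hv)] at h1
    exact h1
  have cd : ∀ {u}, u ∈ W → ∀ i, cond i u 1 ∈ W := fun hu i => by cases i <;> simp [hu]
  have gm : ∀ x, gg t c a b x ∈ W := fun x => mul_mem (mul_mem (cd mc _) (cd mt _)) (mul_mem (cd ma _) (cd mb _))
  have mul : ∀ x y, gg t c a b x * gg t c a b y = gg t c a b (xr x y) := fun x y => by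
    simp only [gg, xr, cond_xor (hsq _ mt), cond_xor (hsq _ mc), cond_xor (hsq _ ma), cond_xor (hsq _ mb)]
    rw [(cm (mul_mem (cd ma _) (cd mb _)) (mul_mem (cd mc _) (cd mt _))).mul_mul_mul_comm,
      (cm (cd mt _) (cd mc _)).mul_mul_mul_comm, (cm (cd mb _) (cd ma _)).mul_mul_mul_comm]
  have sur : ∀ w ∈ W, ∃ x, gg t c a b x = w := le (Y := ⟨⟨⟨Set.range (gg t c a b), by
      rintro _ _ ⟨x, rfl⟩ ⟨y, rfl⟩
      exact ⟨_, (mul x y).symm⟩⟩, ⟨(false, false, false, false), by simp [gg]⟩⟩, by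
      rintro _ ⟨x, rfl⟩
      exact ⟨x, eq_inv_of_mul_eq_one_left (hsq _ (gm x))⟩⟩) ⟨(true, false, false, false), by simp [gg]⟩
    ⟨(false, true, false, false), by simp [gg]⟩ ⟨(false, false, true, false), by simp [gg]⟩
    ⟨(false, false, false, true), by simp [gg]⟩
  have inj : Function.Injective (gg t c a b) := fun x y e' =>
    ((Nat.bijective_iff_surjective_and_card (fun x => (⟨_, gm x⟩ : W))).2 ⟨fun w =>
      (sur w w.2).imp fun _ => Subtype.ext, by simp [hcard]⟩).1 (Subtype.ext e')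
  have t1 : t ≠ 1 := fun e' => hta (by rwa [e', one_mul, ← e'])
  have hd : ∀ x, IsConj t (gg t c a b x) ↔ dl x = true := by
    rintro ⟨_ | _, _ | _, _ | _, _ | _⟩ <;> simp [gg, dl, -isConj_iff, IsConj.refl, *]
  have one : gg t c a b (false, false, false, false) = 1 := by simp [gg]
  have nm : ∀ {g}, g * t = t * g → g * c * g⁻¹ ∈ W → g * a * g⁻¹ ∈ W → g * b * g⁻¹ ∈ W → g ∈ 𝒩(W) :=
    fun {g} h1 h2 h3 h4 => mem_norm fun _ hx => le (Y := W.comap (MulAut.conj g).toMonoidHom)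
      (show g * t * g⁻¹ ∈ W by rwa [comm_conj_eq h1]) h2 h3 h4 hx
  refine XH.false (t := t) (c := c) (e := e) (r := r) (W := W) (Y := Y) ⟨hcard, hsq, mt, mc, t1, ?_, ?_, fun u hu v hv => ?_,
    he, het, hec, nm het (hec ▸ mul_mem mc mt) (hea.symm ▸ ma) (heb ▸ mul_mem ma mb), hne, hsyl, YC, nY, DY, eY, ext, hnc, hr, hrt,
    nm hrt (by rwa [comm_conj_eq hrc]) (hra ▸ mb) (hrb ▸ mul_mem ma mb), fun s hs => ?_, ?_⟩
  · have : {s | s ∈ W ∧ IsConj t s} = gg t c a b '' ↑(Finset.univ.filter fun x => dl x = true) := by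
      ext s
      refine ⟨fun hs => ?_, ?_⟩
      · obtain ⟨x, rfl⟩ := sur s hs.1
        exact ⟨x, by simpa using (hd x).1 hs.2, rfl⟩
      · rintro ⟨x, hx, rfl⟩
        exact ⟨gm x, (hd x).2 (by simpa using hx)⟩
    rw [this, Set.ncard_image_of_injective _ inj, Set.ncard_coe_finset]
    decide
  · have h1 : ∀ {s}, s ∈ W → IsConj t s → s ∈ closure {s | s ∈ W ∧ IsConj t s} := fun h1 h2 =>
      Subgroup.subset_closure ⟨h1, h2⟩
    exact le (h1 mt (.refl t)) ((Subgroup.mul_mem_cancel_right _ (h1 ma ha)).1 (h1 (mul_mem mc ma) hca)) (h1 ma ha)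
      (h1 mb hb)
  · obtain ⟨x, rfl⟩ := sur u hu
    obtain ⟨y, rfl⟩ := sur v hv
    rw [mul, hd, hd, hd, ← one, inj.ne_iff, inj.ne_iff, inj.ne_iff]
    clear hu hv
    revert x y
    decide
  · obtain ⟨x, rfl⟩ := sur s hs
    have h1 : r * gg t c a b x * r⁻¹ = gg t c a b (x.1, x.2.1, x.2.2.2, xor x.2.2.1 x.2.2.2) := by
      have h2 : b * (a * b) = a := by rw [← (cm ma mb).left_comm, hsq b mb, mul_one]
      have h3 := comm_conj_eq hrt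
      have h4 := comm_conj_eq hrc
      simp only [gg, ← conj_mul]
      rcases x with ⟨_ | _, _ | _, _ | _, _ | _⟩ <;> simp [h2, h3, h4, hra, hrb]
    rw [h1, hd, inj.eq_iff]
    intro h2 h3
    rw [show x = (true, false, false, false) by clear hs h1; revert x; decide]
    simp [gg]
  · rw [hrk]
    exact mul_mem (normalClosure_normal.conj_mem _ (subset_normalClosure ma) _)
      (normalClosure_normal.conj_mem _ (subset_normalClosure ma) _)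

end CfsgLib.HNS
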