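import Cfsg.Agent.Lib.HNS.Phi
import Cfsg.Agent.Lib.HNS.X28

/-! Standard subgroup `2.HS`: the class of `d` does not fuse to `t` -/

set_option autoImplicit false
set_option linter.unusedSectionVars false

namespace CfsgLib.HNS

open Subgroup CfsgLib.HN CfsgLib.HNR FusA

variable {G : Type*} [Group G] {t : G} {φ : PH →* G} {C : Subgroup G}

theorem eps_K {ε : PH →* PH} (h : ε = MonoidHom.id _ ∨ ε = δ) {b : PH} (hb : b ∈ K) : ε b = b := by
  rcases h with rfl | rfl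
  exacts [rfl, δ_mem hb]

theorem eps_or {ε : PH →* PH} (h : ε = MonoidHom.id _ ∨ ε = δ) (b : PH) : ε b = b ∨ ε b = b * tP := by
  rcases h with rfl | rfl
  exacts [.inl rfl, (em (b ∈ K)).imp δ_mem δ_out]

namespace Amb

variable (h : Amb t φ C)
include h

theorem fc (a : PH) : Commute (φ a) t := h.ft ▸ (Commute.map (t_comm a) φ)
theorem tt : t * t = 1 := by rw [← h.ft, ← map_mul, t_sq, map_one]
theorem t1 : t ≠ 1 := fun e => t_ne (h.inj (h.ft.trans (e.trans (map_one φ).symm)))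

theorem dec' {x : G} (hx : Commute x t) : ∃ a, ∃ κ ∈ C, ∃ ε : PH →* PH, x = φ a * κ ∧ (ε = MonoidHom.id _ ∨ ε = δ) ∧
    (∀ b, κ * φ b * κ⁻¹ = φ (ε b)) ∧ ∀ b, x * φ b * x⁻¹ = φ (a * ε b * a⁻¹) := by
  obtain ⟨a, κ, hκ, rfl⟩ := h.dec x hx
  obtain ⟨ε, e1, e2⟩ := h.act κ hκ
  exact ⟨a, κ, hκ, ε, rfl, e1, e2, fun b => by rw [map_mul, map_mul, map_inv, ← e2]; group⟩

theorem rC {κ : G} (hκ : κ ∈ C) (hr : κ ∈ φ.range) : κ = 1 ∨ κ = t := by
  obtain ⟨a, rfl⟩ := hr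
  exact (h.inter a hκ).imp (fun e => by rw [e, map_one]) fun e => by rw [e, h.ft]

theorem mr {κ : G} (e : κ = 1 ∨ κ = t) : κ ∈ φ.range := e.elim (fun e => e ▸ one_mem _) fun e => ⟨tP, h.ft.trans e.symm⟩

theorem notD [Finite G] (B : ¬ IsConj t (φ cP)) {g : G} (g1 : g * t * g⁻¹ = φ uP) (g2 : g * φ ρP * g⁻¹ = φ ρP)
    (g3 : g * φ vP * g⁻¹ = φ dP) : False := by
  let X := centralizer ({φ ρP} : Set G)
  have mk : ∀ {a}, ρP * a = a * ρP → φ a ∈ X := fun ha =>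
    mem_centralizer_singleton_iff.2 (Commute.map ha φ).symm
  let t' : X := ⟨φ tP, mk (t_comm _)⟩
  let P : PH → Prop := fun a => ∃ x ∈ X, x * t * x⁻¹ = φ a
  have gX : g ∈ X := mem_centralizer_singleton_iff.2 (mul_inv_eq_iff_eq_mul.1 g2)
  have pos : ∀ {s : X} {a : PH}, (s : G) = φ a → P a → IsConj t' s := fun hs ⟨x, hx, e⟩ =>
    isConj_iff.2 ⟨⟨x, hx⟩, Subtype.ext (by change x * φ tP * x⁻¹ = _; rw [h.ft, e, hs])⟩
  have cp : ∀ {a b k : PH}, ρP * k = k * ρP → k * a = b * k → P a → P b := fun {a b k} e1 e2 ⟨x, hx, e⟩ =>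
    ⟨φ k * x, mul_mem (mk e1) hx, by
      rw [← mul_inv_eq_iff_eq_mul.2 e2, map_mul, map_mul, map_inv, ← e]; group⟩
  have pu : P uP := ⟨g, gX, g1⟩
  have pv : P vP := cp ρr ru pu
  have pd : P dP := pv.elim fun x e => ⟨g * x, mul_mem gX e.1, by rw [← g3, ← e.2]; group⟩
  have pcv : P (cP * vP) := cp ρr (by simp only [← mul_assoc]; exact pke [10, 3, 2] [3, 4, 10]) pd
  have ptd : P (cP * tP * uP) := cp ρe (by simp only [← mul_assoc]; exact pke [11, 3, 2] [3, 0, 2, 11]) pd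
  have ptv : P (cP * tP * vP) := cp ρr (by simp only [← mul_assoc]; exact pke [10, 3, 0, 2] [3, 0, 4, 10]) ptd
  have neg : ∀ {s : X} {a : PH}, (s : G) = φ a → ¬ IsConj t (φ a) → ¬ IsConj t' s :=
    fun hs hc e => hc (hs ▸ h.ft ▸ X.subtype.map_isConj e)
  obtain ⟨k₁, k₂, h1, h2, h3⟩ := r_prod
  let c' : X := ⟨φ cP, mk ρc⟩
  let u' : X := ⟨φ uP, mk ρu⟩
  let v' : X := ⟨φ vP, mk ρv⟩
  let e' : X := ⟨φ eP, mk ρe⟩
  have hW : (closure {t', c', u', v'}).map X.subtype = (closure {tP, cP, uP, vP}).map φ := by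
    simp only [MonoidHom.map_closure, Set.image_insert_eq, Set.image_singleton]
    rfl
  have mW : ∀ w ∈ closure {t', c', u', v'}, ∃ y ∈ closure {tP, cP, uP, vP}, φ y = w :=
    fun w hw => hW.le (mem_map_of_mem _ hw)
  have ex : ∀ {a b : X} {a₀ b₀ : PH}, a₀ = b₀ → (a : G) = φ a₀ → (b : G) = φ b₀ → a = b :=
    fun e h1 h2 => Subtype.ext (by rw [h1, h2, e])
  have z := h.nz
  have ct : ∀ {k : X}, k ∈ centralizer {t'} → Commute (k : G) t := fun hk =>
    h.ft ▸ congrArg Subtype.val (mem_centralizer_singleton_iff.1 hk)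
  have mρ : ∀ {a}, φ a ∈ X → a * ρP = ρP * a := fun ha =>
    h.inj (by rw [map_mul, map_mul]; exact mem_centralizer_singleton_iff.1 ha)
  refine x28 t' c' u' v' e' ⟨φ rP, mk ρr⟩ ⟨φ k₁, mk h1.symm⟩ ⟨φ k₂, mk h2.symm⟩ _ (φ.range.subgroupOf X) rfl ?_
    (fun w hw => ?_) (pos rfl pu) (pos rfl pv) (pos (map_mul φ _ _).symm (cp ρr rv pv))
    (pos (map_mul φ _ _).symm pd) (pos (map_mul φ _ _).symm pcv)
    (pos (a := cP * (uP * vP)) (by simp [c', u', v'])
      (cp ρr (by simp only [← mul_assoc]; exact pke [10, 3, 4] [3, 2, 4, 10]) pcv))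
    (pos (by simp [c', u', t']) ptd) (pos (by simp [c', v', t']) ptv)
    (pos (a := cP * tP * (uP * vP)) (by simp [c', u', v', t'])
      (cp ρr (by simp only [← mul_assoc]; exact pke [10, 3, 0, 4] [3, 0, 2, 4, 10]) ptv))
    (neg rfl B) (neg (map_mul φ _ _).symm fun e => B (e.trans (φ.map_isConj c_ct).symm))
    (neg (map_mul φ _ _).symm fun e => z (e.trans (φ.map_isConj z_tu).symm))
    (neg (map_mul φ _ _).symm fun e => z (e.trans (φ.map_isConj (z_tu.trans (t_mul u_v))).symm))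
    (neg (a := tP * (uP * vP)) (by simp [t', u', v']) fun e =>
      z (e.trans (φ.map_isConj (z_tu.trans (t_mul (u_v.trans v_uv)))).symm))
    (ex e_sq (map_mul φ _ _).symm (map_one φ).symm)
    (ex (t_comm eP) (map_mul φ _ _).symm (map_mul φ _ _).symm)
    (ex (mul_inv_eq_iff_eq_mul.2 ec) (by simp [e', c']) (map_mul φ _ _).symm)
    (ex (mul_inv_eq_iff_eq_mul.2 eu) (by simp [e', u']) rfl)
    (ex (mul_inv_eq_iff_eq_mul.2 ev') (by simp [e', v']) (map_mul φ _ _).symm)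
    (fun w hw hw' => ?_) ?_ ?_ (fun k hk y hy => ?_) (fun s hs hc => h.rng s (h.ft ▸ X.subtype.map_isConj hs) (ct hc))
    ⟨eP, rfl⟩ (fun y hy hY hs => ?_) (fun k hk => ?_)
    (ex ((pow_three' rP).trans r_cube) (by simp) (map_one φ).symm)
    (ex (t_comm rP) (map_mul φ _ _).symm (map_mul φ _ _).symm)
    (ex rc (map_mul φ _ _).symm (map_mul φ _ _).symm)
    (ex (mul_inv_eq_iff_eq_mul.2 ru) (by simp [u']) rfl)
    (ex (mul_inv_eq_iff_eq_mul.2 rv) (by simp [v']) (map_mul φ _ _).symm)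
    (ex h3 rfl (by simp [u']))
  · rw [← card_map_of_injective X.subtype_injective, hW, card_map_of_injective h.inj, card_W]
  · obtain ⟨y, hy, e⟩ := mW w hw
    exact ex (W_sq y hy) (by simp [e]) (map_one φ).symm
  · obtain ⟨y, hy, e⟩ := mW w hw
    refine neg (a := eP * y) (by simp [e', e]) fun e1 => B (e1.trans (φ.map_isConj (e_W hy ?_)).symm)
    refine h.inj ?_
    simpa [e, e'] using congrArg Subtype.val hw'
  · have : (φ.range.subgroupOf X).map X.subtype = (centralizer {ρP}).map φ := by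
      ext x
      constructor
      · rintro ⟨y, ⟨a, ha⟩, rfl⟩
        exact ⟨a, mem_centralizer_singleton_iff.2 (mρ (ha ▸ y.2)), ha⟩
      · rintro ⟨a, ha, rfl⟩
        exact ⟨⟨φ a, mk (mem_centralizer_singleton_iff.1 ha).symm⟩, ⟨a, rfl⟩, rfl⟩
    rw [← card_map_of_injective X.subtype_injective, this, card_map_of_injective h.inj, card_Cρ]
    norm_num
  · rintro y ⟨a, ha⟩
    exact mem_centralizer_singleton_iff.2 (ex (t_comm a) (by simp [t', ha]) (by simp [t', ha]))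
  · obtain ⟨a, κ, -, ε, -, -, -, e⟩ := h.dec' (ct hk)
    obtain ⟨b, hb⟩ := hy
    exact ⟨_, (e b).symm.trans (by rw [hb]; rfl)⟩
  · obtain ⟨a, κ, hκ, ε, e1, e2, e3, -⟩ := h.dec' (ct hy)
    have κX : κ ∈ X := mem_centralizer_singleton_iff.2 (mul_inv_eq_iff_eq_mul.1 (by rw [e3, eps_K e2 ρ_K]))
    have aX : φ a ∈ X := (Subgroup.mul_mem_cancel_right X κX).1 (e1 ▸ y.2)
    have k1 : κ * κ = t := by
      obtain ⟨w, -, e⟩ := mW _ hs
      refine (h.rC (mul_mem hκ hκ) ⟨(a * ε a)⁻¹ * w, ?_⟩).resolve_left fun e' =>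
        hY (show (y : G) ∈ φ.range from e1 ▸ mul_mem ⟨a, rfl⟩ (h.mr (h.inv κ hκ e')))
      rw [map_mul, e, coe_mul, e1, map_inv, map_mul, ← e3]; group
    obtain rfl : ε = δ := e2.resolve_left fun e => h.no4 κ hκ (fun b => mul_inv_eq_iff_eq_mul.1 (by rw [e3, e]; rfl)) k1
    refine ⟨⟨φ a, aX⟩, ⟨a, rfl⟩, ⟨κ, κX⟩, Subtype.ext e1, Subtype.ext (k1.trans h.ft.symm), ?_,
      Subtype.ext ((e3 cP).trans (by rw [δ_out c_K, map_mul]; rfl)),
      Subtype.ext ((e3 eP).trans (by rw [δ_out ((K_conj c_e).not.1 c_K), map_mul]; rfl))⟩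
    rintro x ⟨b, hb⟩
    replace hb : φ b = x := hb
    exact (eps_or e2 b).imp (fun e => Subtype.ext (by simpa [e, hb] using e3 b)) fun e =>
      Subtype.ext (by simpa [e, hb, t'] using e3 b)
  · obtain ⟨a, κ, hκ, ε, e1, e2, e3, e4⟩ := h.dec' (ct (mem_centralizer_singleton_iff.2 hk))
    have κX : κ ∈ X := mem_centralizer_singleton_iff.2 (mul_inv_eq_iff_eq_mul.1 (by rw [e3, eps_K e2 ρ_K]))
    have := Cρ_c (mρ ((Subgroup.mul_mem_cancel_right X κX).1 (e1 ▸ k.2)))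
    have e5 : a * ε cP * a⁻¹ = cP ∨ a * ε cP * a⁻¹ = cP * tP := by
      rcases eps_or e2 cP with e | e <;> rw [e]
      · exact this
      · rw [← conj_mul, t_comm a, mul_inv_cancel_right]
        exact this.symm.imp (fun e => by rw [e, mul_assoc, t_sq, mul_one]) fun e => by rw [e]
    exact e5.imp (fun e => ex e (e4 cP) rfl) fun e => ex e (e4 cP) (map_mul φ _ _).symm

end Amb

end CfsgLib.HNS
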