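import Cfsg.Agent.Lib.HNS.Cls

/-! Standard subgroup `2.HS`: the embedding of `PH` -/

set_option autoImplicit false
set_option linter.unusedSectionVars false

namespace CfsgLib.HNS

open Subgroup Cfsg CfsgLib.HN CfsgLib.HNR FusA Conn
open CfsgLib.StdInt hiding Pair Fus comm_conj

variable {G : Type*} [Group G] {f : PH → G} {L : Subgroup G}

/-- `C(t) = φ(PH) C` -/
structure Amb (t : G) (φ : PH →* G) (C : Subgroup G) : Prop where
  inj : Function.Injective φ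
  ft : φ tP = t
  dec : ∀ h, Commute h t → ∃ a, ∃ κ ∈ C, h = φ a * κ
  act : ∀ κ ∈ C, ∃ ε : PH →* PH, (ε = MonoidHom.id _ ∨ ε = δ) ∧ ∀ a, κ * φ a * κ⁻¹ = φ (ε a)
  inter : ∀ a, φ a ∈ C → a = 1 ∨ a = tP
  inv : ∀ κ ∈ C, κ * κ = 1 → κ = 1 ∨ κ = t
  no4 : ∀ κ ∈ C, (∀ a, Commute κ (φ a)) → κ * κ ≠ t
  rng : ∀ x, IsConj t x → Commute x t → x ∈ φ.range
  cu : IsConj t (φ uP)
  nz : ¬ IsConj t (φ zP)

theorem Em.exists_φ (E : Em f L) {h : G} (hc : Ac f cP h) (h2 : h * h = 1) :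
    ∃ φ : PH →* G, (∀ a ∈ K, φ a = f a) ∧ φ cP = h ∧ ∀ a, Ac f a (φ a) := by
  classical
  have k : ∀ {a}, a ∉ K → a * cP ∈ K := fun ha => Kmul.2 (iff_of_false ha c_K)
  have ci : cP⁻¹ = cP := invk 3 3
  have cc : ∀ a, a * cP * cP = a := fun a => by rw [mul_assoc, c_sq, mul_one]
  have k2 : ∀ {b}, b ∈ K → cP * b * cP ∈ K := fun hb => by simpa only [ci] using Kcj cP hb
  have hh : ∀ b ∈ K, h * f b = f (cP * b * cP) * h := fun b hb => by rw [← mul_inv_eq_iff_eq_mul, hc b hb, ci]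
  refine ⟨MonoidHom.mk' (fun a => if a ∈ K then f a else f (a * cP) * h) fun a b => ?_, fun a ha => if_pos ha,
    by rw [MonoidHom.mk'_apply, if_neg c_K, c_sq, E.one, one_mul], fun a => ?_⟩
  · by_cases ha : a ∈ K <;> by_cases hb : b ∈ K <;> simp only [Kmul (a := a) (b := b), ha, hb, iff_self, iff_true,
      iff_false, if_true, if_false, not_true]
    · exact E.mul ha hb
    · rw [mul_assoc a, E.mul ha (k hb), mul_assoc]
    · rw [mul_assoc _ h, hh b hb, ← mul_assoc (f _), ← E.mul (k ha) (k2 hb), ← mul_assoc, ← mul_assoc, cc]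
    · rw [mul_assoc _ h, ← mul_assoc h, hh _ (k hb), mul_assoc _ h h, h2, mul_one, ← E.mul (k ha) (k2 (k hb)),
        ← mul_assoc cP, cc, ← mul_assoc, cc]
  · change Ac f a (if a ∈ K then f a else f (a * cP) * h)
    split_ifs with ha
    · exact E.ac ha
    · simpa only [cc] using (E.ac (k ha)).mul hc

theorem Em.exists_amb [Finite G] [IsSimpleGroup G] (E : Em f L) (hG : ¬IsMulCommutative G) :
    ∃ (t : G) (φ : PH →* G) (C : Subgroup G), Amb t φ C ∧ (IsConj t (φ cP) ∧ ¬ IsConj t (φ dP) ∨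
      ¬ IsConj t (φ cP) ∧ ∃ g, g * t * g⁻¹ = φ uP ∧ g * φ ρP * g⁻¹ = φ ρP ∧ g * φ vP * g⁻¹ = φ dP) := by
  obtain ⟨g, h1, h2, h3⟩ := E.exists_g (E.cu hG)
  have hs := cjc g (E.cv h1 h2).1
  obtain ⟨φ, p1, p2, r, hr, p3⟩ : ∃ φ : PH →* G, (∀ a ∈ K, φ a = f a) ∧ (∀ a, Ac f a (φ a)) ∧
      ∃ r, (r = cP ∨ r = dP) ∧ φ r = g * f vP * g⁻¹ := by
    rcases E.s_ac h1 h2 h3 with e | e
    · obtain ⟨φ, a, b, c⟩ := E.exists_φ e (E.sqD hs)
      exact ⟨φ, a, c, _, .inl rfl, b⟩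
    · have uu := (E.sq u_K).2 u_sq
      obtain ⟨φ, a, b, c⟩ := E.exists_φ (h := g * f vP * g⁻¹ * f uP)
        ((show dP * uP = cP from pke [3, 2, 2] [3]) ▸ e.mul (E.ac u_K)) (by
          rw [((E.comm e u_K).2 (pke [3, 2, 2] [2, 3, 2] |>.trans (mul_assoc _ _ _))).symm.mul_mul_mul_comm, E.sqD hs,
            uu, mul_one])
      exact ⟨φ, a, c, _, .inr rfl, by rw [map_mul, b, a _ u_K, mul_assoc, uu, mul_one]⟩
  have rK : r ∉ K := by rcases hr with rfl | rfl; exacts [c_K, d_K]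
  have inter : ∀ a, φ a ∈ centralizer (L : Set G) → a = 1 ∨ a = tP := fun a => (E.memC (p2 a)).1
  have inj : Function.Injective φ := (injective_iff_map_eq_one φ).2 fun a ha =>
    (inter a (ha ▸ one_mem _)).resolve_right fun e => E.t1 (by rw [← p1 _ t_K, ← e, ha])
  have oe : ∀ s, IsConj (f tP) s → (Ac f cP s ∨ Ac f dP s) → s = φ r ∨ s = φ (tP * r) := fun s a b => by
    rw [map_mul, p3, p1 _ t_K]; exact E.out_eq h1 h2 h3 a b
  have rng : ∀ x, IsConj (f tP) x → Commute x (f tP) → x ∈ φ.range := fun x hx hc => by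
    have hL : ∀ l ∈ L, l ∈ φ.range := fun l hl => (E.mem.1 hl).imp fun a e => (p1 a e.1).trans e.2
    obtain ⟨m, hm⟩ := E.act' hc
    by_cases hK : m ∈ K
    · exact hL _ (E.inner hx hm hK)
    obtain ⟨l, hl, e⟩ := E.repO hx hm hK
    rw [← cj_cancel l x]
    exact mul_mem (mul_mem (inv_mem (hL l hl)) ((oe _ (cjc l hx) e).elim (fun e => ⟨_, e.symm⟩) fun e => ⟨_, e.symm⟩))
      (hL l hl)
  refine ⟨f tP, φ, _, ⟨inj, p1 _ t_K, fun h hh => ?_, fun κ hκ => ?_, inter, fun κ => E.invC h1 h2,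
    fun κ hκ hc => E.no4 h1 h2 hκ fun x a b => (rng x a b).elim fun y e => e ▸ hc y, rng, p1 _ u_K ▸ E.cu hG,
    p1 _ z_K ▸ E.nz⟩, ?_⟩
  · obtain ⟨m, hm⟩ := E.act' hh
    exact ⟨m, (φ m)⁻¹ * h, (E.memC ((p2 m).inv.mul hm)).2 (.inl (inv_mul_cancel m)), by group⟩
  · have a1 : ∀ a ∈ K, κ * φ a * κ⁻¹ = φ a := fun a ha => by rw [p1 a ha, E.acC hκ a ha]; simp
    have a2 : ∀ a ∉ K, κ * φ a * κ⁻¹ = φ (a * r⁻¹) * (κ * φ r * κ⁻¹) := fun a ha => by
      rw [← a1 _ (Kmul.2 (iff_of_false ha (mt inv_mem_iff.1 rK))), conj_mul, ← map_mul, inv_mul_cancel_right]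
    have a3 : Ac f r (κ * φ r * κ⁻¹) := by simpa using ((E.acC hκ).mul (p2 r)).mul (E.acC hκ).inv
    rcases oe _ (cjc κ (p3 ▸ hs)) (hr.imp (· ▸ a3) (· ▸ a3)) with e | e
    · refine ⟨_, .inl rfl, fun a => (em (a ∈ K)).elim (a1 a) fun ha => ?_⟩
      rw [a2 a ha, e, ← map_mul, inv_mul_cancel_right]; rfl
    · refine ⟨_, .inr rfl, fun a => (em (a ∈ K)).elim (fun ha => by rw [a1 a ha, δ_mem ha]) fun ha => ?_⟩
      rw [a2 a ha, e, ← map_mul, δ_out ha, ← t_comm, ← mul_assoc, inv_mul_cancel_right]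
  · rcases hr with rfl | rfl
    · refine .inl ⟨p3 ▸ hs, fun e => (oe _ e (.inr (p2 _))).elim (fun e => pkn [3, 2] [3] (by decide +kernel) (inj e))
        fun e => pkn [3, 2] [0, 3] (by decide +kernel) (inj e)⟩
    · refine .inr ⟨fun e => (oe _ e (.inl (p2 _))).elim (fun e => pkn [3] [3, 2] (by decide +kernel) (inj e))
        fun e => pkn [3] [0, 3, 2] (by decide +kernel) ((inj e).trans (mul_assoc _ _ _).symm),
        g, by rw [h1, p1 _ u_K], by rw [p1 _ ρ_K, h3], by rw [p3, p1 _ v_K]⟩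

end CfsgLib.HNS
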